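import Cfsg.Agent.J4Maximal.Data.Pool

/-!
Words and certificates for the prime 37.
-/

set_option autoImplicit false
set_option maxRecDepth 8000

namespace Cfsg.Lib.J4Maximal.P37

open Cfsg.Lib.J4Cert

/-- A word with an element of large prime order. -/
structure Crt where
  i : ℕ
  a : List ℕ
  j : List ℕ
  dbl : Bool
  z : ℕ

/-- The node of each pool element. -/
def pnode : List ℕ := [0, 16, 509, 494, 0, 0, 234, 237, 116, 242, 414, 417, 116, 440, 510, 444, 511, 0, 238, 239, 240, 241, 242, 422, 430, 439, 442, 445, 447, 16, 512, 513, 514, 515, 517, 519, 521]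

/-- The pool tables. -/
def ptabs : List (List ℕ) := [pt0, pt1, pt2, pt3, pt4, pt5, pt6, pt7, pt8, pt9, pt10, pt11, pt12, pt13, pt14, pt15, pt16, pt17, pt18, pt19, pt20, pt21, pt22, pt23, pt24, pt25, pt26, pt27, pt28, pt29, pt30, pt31, pt32, pt33, pt34, pt35, pt36]

/-- The test vector. -/
def w0 : ℕ := 0x5bc8bde5c0994164d8399f767c45

/-- Double coset representatives in the centraliser of order 2304. -/
def rep1 : List (List ℕ) := [[], [6], [7], [6, 6], [7, 7], [6, 6, 6], [6, 8, 6], [6, 8, 7], [7, 8, 6], [6, 6, 8, 6], [6, 6, 8, 7], [6, 8, 6, 6], [6, 8, 7, 7], [6, 6, 8, 6, 6], [6, 8, 7, 8, 6], [6, 6, 8, 6, 8, 7], [6, 8, 6, 6, 8, 6], [6, 6, 8, 7, 7, 8, 7], [6, 8, 6, 6, 6, 8, 7], [6, 6, 8, 6, 6, 6, 8, 6]]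

/-- Their inverses. -/
def rep1i : List (List ℕ) := [[], [7], [6], [7, 7], [6, 6], [7, 7, 7], [7, 9, 7], [6, 9, 7], [7, 9, 6], [7, 9, 7, 7], [6, 9, 7, 7], [7, 7, 9, 7], [6, 6, 9, 7], [7, 7, 9, 7, 7], [7, 9, 6, 9, 7], [6, 9, 7, 9, 7, 7], [7, 9, 7, 7, 9, 7], [6, 9, 6, 6, 9, 7, 7], [6, 9, 7, 7, 7, 9, 7], [7, 9, 7, 7, 7, 9, 7, 7]]

/-- Orbit representatives of the conjugates of the involution. -/
def rep2 : List (List ℕ) := [[], [10], [11], [10, 6], [10, 7], [10, 10], [11, 6], [11, 7], [11, 11], [10, 4, 10], [10, 6, 6], [10, 6, 10], [10, 6, 11], [10, 7, 7], [10, 7, 10], [10, 7, 11], [10, 8, 7], [10, 8, 10], [10, 8, 11], [10, 9, 10], [10, 9, 11], [10, 10, 6], [10, 10, 7], [10, 10, 10], [11, 6, 6], [11, 6, 10], [11, 6, 11], [11, 7, 7], [11, 7, 10], [11, 7, 11], [11, 8, 7], [11, 8, 10], [11, 8, 11], [11, 9, 10], [11, 9, 11], [11, 11, 6], [11, 11, 7], [10, 4, 6, 10], [10, 4, 7, 10], [10,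 4, 7, 11], [10, 4, 10, 6], [10, 4, 10, 7], [10, 4, 11, 6], [10, 4, 11, 11], [10, 6, 6, 6], [10, 6, 6, 10], [10, 6, 8, 6], [10, 6, 8, 10], [10, 6, 8, 11], [10, 6, 9, 10], [10, 6, 9, 11], [10, 6, 10, 10], [10, 6, 11, 7], [10, 7, 7, 10], [10, 7, 7, 11], [10, 7, 8, 6], [10, 7, 8, 7], [10, 7, 8, 10], [10, 7, 9, 10], [10, 7, 9, 11], [10, 7, 10, 6], [10, 7, 10, 7], [10, 7, 11, 6], [10, 7, 11, 7], [10, 7, 11, 11], [10, 8, 6, 6], [10, 8, 6, 10], [10, 8, 6, 11], [10, 8, 7, 10], [10, 8, 11, 6], [10, 8, 11, 11], [10, 9, 6, 10], [10, 9, 10, 7], [10, 9, 10, 10], [10, 9, 11, 6], [10, 10, 4, 11], [10, 10, 6, 10], [10, 10, 6, 11], [10, 10, 7, 7], [10, 10, 8, 10], [10, 10, 8, 11], [10, 10, 9, 10], [10, 10, 9, 11], [10, 10, 10, 6], [10, 10, 10, 7], [11, 4, 6, 11], [11, 4, 7, 10], [11, 4, 7, 11], [11, 4, 10, 6], [11, 6, 6, 6], [11, 6, 6, 11], [11, 6, 8, 6], [11, 6, 8, 10], [11, 6, 9, 10], [11, 6, 10,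 6], [11, 6, 10, 7], [11, 6, 11, 6], [11, 6, 11, 7], [11, 7, 8, 6], [11, 7, 8, 7], [11, 7, 10, 7], [11, 8, 6, 6], [11, 8, 10, 6], [11, 8, 10, 10], [11, 8, 11, 6], [11, 8, 11, 11], [11, 11, 6, 11], [11, 11, 7, 11], [11, 11, 9, 10], [10, 4, 6, 6, 11], [10, 4, 10, 7, 10], [10, 4, 10, 7, 11], [10, 4, 11, 4, 10], [10, 4, 11, 7, 7], [10, 4, 11, 9, 10], [10, 4, 11, 9, 11], [10, 4, 11, 11, 6], [10, 4, 11, 11, 7], [10, 6, 6, 8, 10], [10, 6, 6, 10, 6], [10, 6, 8, 6, 11], [10, 6, 8, 10, 6], [10, 6, 8, 11, 6], [10, 6, 9, 10, 6], [10, 6, 9, 10, 10], [10, 6, 10, 7, 10], [10, 6, 10, 8, 11], [10, 6, 10, 9, 10], [10, 6, 10, 10, 6], [10, 6, 11, 7, 10], [10, 7, 7, 8, 11], [10, 7, 7, 11, 7], [10, 7, 8, 6, 11], [10, 7, 8, 11, 6], [10, 7, 9, 6, 10], [10, 7, 9, 10, 6], [10, 7, 9, 11, 11], [10, 7, 10, 8, 6], [10, 7, 11, 9, 10], [10, 8, 6, 11, 6], [10, 8, 6, 11, 7], [10, 8, 7, 9, 10], [10, 8, 7, 9, 11],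 [10, 8, 7, 11, 11], [10, 8, 11, 6, 6], [10, 8, 11, 11, 6], [10, 8, 11, 11, 7], [10, 9, 10, 10, 6], [10, 9, 11, 8, 10], [10, 9, 11, 9, 10], [10, 10, 10, 7, 10], [11, 4, 7, 11, 6], [11, 4, 10, 6, 10], [11, 4, 10, 6, 11], [11, 6, 11, 4, 10], [11, 6, 11, 7, 10], [11, 7, 9, 11, 6], [10, 4, 11, 4, 10, 7], [10, 4, 11, 4, 11, 11], [10, 4, 11, 11, 8, 10], [10, 6, 6, 9, 10, 10], [10, 6, 6, 10, 10, 10], [10, 6, 9, 11, 9, 10], [10, 6, 11, 6, 11, 11], [10, 10, 10, 6, 6, 6]]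

/-- Their inverses. -/
def rep2i : List (List ℕ) := [[], [11], [10], [7, 11], [6, 11], [11, 11], [7, 10], [6, 10], [10, 10], [11, 5, 11], [7, 7, 11], [11, 7, 11], [10, 7, 11], [6, 6, 11], [11, 6, 11], [10, 6, 11], [6, 9, 11], [11, 9, 11], [10, 9, 11], [11, 8, 11], [10, 8, 11], [7, 11, 11], [6, 11, 11], [11, 11, 11], [7, 7, 10], [11, 7, 10], [10, 7, 10], [6, 6, 10], [11, 6, 10], [10, 6, 10], [6, 9, 10], [11, 9, 10], [10, 9, 10], [11, 8, 10], [10, 8, 10], [7, 10, 10], [6, 10, 10], [11, 7, 5, 11], [11, 6, 5, 11], [10, 6, 5, 11], [7, 11, 5, 11], [6, 11, 5, 11], [7, 10, 5, 11], [10, 10, 5, 11], [7, 7, 7, 11], [11, 7, 7, 11], [7, 9, 7, 11], [11, 9, 7, 11], [10, 9, 7, 11], [11, 8, 7, 11], [10, 8, 7, 11], [11, 11, 7, 11], [6, 10, 7, 11], [11, 6, 6, 11], [10, 6, 6, 11], [7, 9, 6, 11], [6, 9, 6, 11], [11, 9, 6, 11], [11, 8, 6, 11], [10, 8, 6, 11], [7, 11, 6, 11], [6, 11, 6, 11], [7, 10,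 6, 11], [6, 10, 6, 11], [10, 10, 6, 11], [7, 7, 9, 11], [11, 7, 9, 11], [10, 7, 9, 11], [11, 6, 9, 11], [7, 10, 9, 11], [10, 10, 9, 11], [11, 7, 8, 11], [6, 11, 8, 11], [11, 11, 8, 11], [7, 10, 8, 11], [10, 5, 11, 11], [11, 7, 11, 11], [10, 7, 11, 11], [6, 6, 11, 11], [11, 9, 11, 11], [10, 9, 11, 11], [11, 8, 11, 11], [10, 8, 11, 11], [7, 11, 11, 11], [6, 11, 11, 11], [10, 7, 5, 10], [11, 6, 5, 10], [10, 6, 5, 10], [7, 11, 5, 10], [7, 7, 7, 10], [10, 7, 7, 10], [7, 9, 7, 10], [11, 9, 7, 10], [11, 8, 7, 10], [7, 11, 7, 10], [6, 11, 7, 10], [7, 10, 7, 10], [6, 10, 7, 10], [7, 9, 6, 10], [6, 9, 6, 10], [6, 11, 6, 10], [7, 7, 9, 10], [7, 11, 9, 10], [11, 11, 9, 10], [7, 10, 9, 10], [10, 10, 9, 10], [10, 7, 10, 10], [10, 6, 10, 10], [11, 8, 10, 10], [10, 7, 7, 5, 11], [11, 6, 11, 5, 11], [10, 6, 11, 5, 11], [11, 5, 10, 5, 11], [6, 6, 10, 5, 11], [11, 8, 10, 5, 11], [10, 8, 10, 5, 11],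 [7, 10, 10, 5, 11], [6, 10, 10, 5, 11], [11, 9, 7, 7, 11], [7, 11, 7, 7, 11], [10, 7, 9, 7, 11], [7, 11, 9, 7, 11], [7, 10, 9, 7, 11], [7, 11, 8, 7, 11], [11, 11, 8, 7, 11], [11, 6, 11, 7, 11], [10, 9, 11, 7, 11], [11, 8, 11, 7, 11], [7, 11, 11, 7, 11], [11, 6, 10, 7, 11], [10, 9, 6, 6, 11], [6, 10, 6, 6, 11], [10, 7, 9, 6, 11], [7, 10, 9, 6, 11], [11, 7, 8, 6, 11], [7, 11, 8, 6, 11], [10, 10, 8, 6, 11], [7, 9, 11, 6, 11], [11, 8, 10, 6, 11], [7, 10, 7, 9, 11], [6, 10, 7, 9, 11], [11, 8, 6, 9, 11], [10, 8, 6, 9, 11], [10, 10, 6, 9, 11], [7, 7, 10, 9, 11], [7, 10, 10, 9, 11], [6, 10, 10, 9, 11], [7, 11, 11, 8, 11], [11, 9, 10, 8, 11], [11, 8, 10, 8, 11], [11, 6, 11, 11, 11], [7, 10, 6, 5, 10], [11, 7, 11, 5, 10], [10, 7, 11, 5, 10], [11, 5, 10, 7, 10], [11, 6, 10, 7, 10], [7, 10, 8, 6, 10], [6, 11, 5, 10, 5, 11], [10, 10, 5, 10, 5, 11], [11, 9, 10, 10, 5, 11], [11, 11, 8, 7, 7, 11],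 [11, 11, 11, 7, 7, 11], [11, 8, 10, 8, 7, 11], [10, 10, 7, 10, 7, 11], [7, 7, 7, 11, 11, 11]]

/-- The elements of the centraliser of order 48, by key. -/
def ord0 : List ℕ := [11, 14, 46, 19, 38, 36, 12, 10, 47, 32, 42, 7, 0, 15, 18, 9, 33, 13, 35, 8, 39, 25, 4, 17, 34, 1, 21, 27, 3, 29, 2, 45, 5, 28, 31, 23, 22, 30, 41, 20, 16, 43, 24, 37, 6, 26, 40, 44]

/-- The 48 conjugates, by key. -/
def ord1 : List (ℕ × ℕ) := [(10, 1), (7, 1), (8, 5), (3, 5), (3, 3), (12, 1), (2, 3), (1, 1), (11, 3), (3, 0), (2, 5), (3, 1), (7, 0), (17, 0), (13, 0), (2, 0), (11, 5), (8, 0), (1, 3), (11, 1), (19, 0), (9, 0), (13, 1), (1, 5), (0, 0), (9, 5), (12, 0), (15, 0), (5, 0), (16, 0), (14, 0), (9, 3), (11, 0), (6, 0), (4, 5), (18, 0), (10, 0), (6, 1), (8, 1), (9, 1), (7, 3), (4, 3), (4, 1), (2, 1), (7, 5), (8, 3), (1, 0), (4, 0)]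

/-- Conjugates of the involution, by key. -/
def ord2_0 : List (ℕ × ℕ) := [(81, 0), (121, 9), (20, 13), (13, 13), (20, 7), (105, 13), (162, 1), (86, 5), (2, 1), (109, 13), (29, 5), (97, 9), (11, 3), (106, 13), (140, 9), (68, 5), (99, 9), (108, 7), (140, 1), (69, 5), (85, 13), (82, 11), (160, 9), (125, 3), (62, 3), (45, 7), (113, 9), (150, 0), (28, 0), (38, 9), (4, 3), (62, 13), (75, 0), (54, 7), (45, 0), (96, 3), (89, 11), (28, 7), (42, 1), (6, 13), (161, 1), (22, 9), (27, 13), (32, 0), (20, 1), (25, 13), (109, 0), (83, 0), (69, 7), (31, 7), (8, 1), (129, 5), (121, 5), (91, 13), (5, 9), (32, 5), (88, 7), (130, 3), (152, 5), (48, 11), (147, 11), (25, 0), (10, 1), (88, 1), (1, 0), (131, 0), (73, 1), (71, 3), (151, 9), (3, 5), (94, 11), (158, 1), (49, 3), (107, 7), (16, 1), (80, 1), (95, 7), (124, 9), (139, 3), (18, 3), (3, 9), (145, 9), (43, 0), (127, 0), (111, 11), (3, 7), (93,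 9), (131, 1), (1, 1), (63, 11), (129, 0), (62, 9), (111, 7), (27, 7), (154, 0), (29, 13), (113, 0), (119, 11), (31, 1), (126, 1), (160, 7), (34, 7), (124, 1), (135, 1), (152, 7), (114, 1), (28, 1), (48, 5), (80, 7), (93, 5), (92, 1), (27, 3), (79, 3), (36, 1), (130, 11), (24, 7), (103, 0), (14, 7), (105, 11), (125, 5), (63, 0), (98, 11), (45, 9), (146, 5), (46, 9), (141, 13), (49, 9), (136, 5), (12, 13), (103, 1), (55, 11), (47, 11), (162, 9), (54, 9), (44, 9), (1, 5), (29, 9), (61, 0), (79, 13), (120, 1), (85, 5), (1, 11), (6, 11), (86, 7), (156, 0)]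

/-- Conjugates of the involution, by key. -/
def ord2_1 : List (ℕ × ℕ) := [(59, 7), (31, 3), (31, 5), (85, 1), (149, 3), (115, 1), (161, 13), (116, 0), (12, 5), (50, 7), (160, 0), (148, 1), (35, 9), (11, 0), (39, 0), (107, 9), (31, 13), (105, 1), (39, 5), (159, 11), (90, 13), (70, 5), (105, 5), (60, 5), (72, 7), (35, 13), (97, 7), (26, 3), (121, 3), (68, 1), (78, 0), (132, 7), (144, 3), (84, 1), (30, 3), (56, 11), (119, 13), (24, 3), (120, 13), (144, 1), (4, 0), (62, 11), (139, 13), (45, 3), (138, 13), (40, 1), (152, 13), (74, 5), (59, 0), (154, 5), (85, 11), (142, 1), (97, 5), (86, 1), (119, 9), (78, 7), (57, 13), (102, 1), (58, 1), (124, 3), (61, 11), (71, 9), (1, 7), (162, 0), (115, 11), (77, 11), (75, 1), (93, 0), (70, 11), (21, 3), (12, 9), (132, 0), (53, 13), (42, 7), (96, 1), (3, 1), (77, 1), (57, 7), (56, 5), (61, 1), (157, 5), (24, 0), (99, 5), (35, 11), (139, 1), (12,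 0), (46, 1), (46, 13), (141, 9), (96, 7), (137, 9), (140, 0), (163, 1), (143, 0), (44, 5), (146, 3), (128, 1), (55, 13), (11, 1), (160, 13), (143, 13), (132, 1), (126, 5), (118, 0), (102, 7), (51, 3), (116, 1), (147, 1), (104, 1), (46, 3), (89, 7), (89, 9), (37, 11), (142, 5), (24, 1), (19, 1), (115, 3), (32, 13), (50, 9), (95, 9), (17, 13), (81, 7), (36, 9), (131, 9), (3, 0), (151, 1), (107, 11), (78, 3), (50, 13), (11, 9), (131, 5), (157, 0), (155, 7), (88, 11), (140, 7), (59, 3), (67, 11), (48, 0), (98, 9), (71, 11), (17, 0), (108, 11), (11, 11), (16, 7), (70, 9)]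

/-- Conjugates of the involution, by key. -/
def ord2_2 : List (ℕ × ℕ) := [(30, 0), (143, 1), (80, 11), (110, 3), (53, 5), (64, 3), (121, 7), (15, 9), (76, 5), (11, 13), (53, 7), (12, 11), (78, 9), (104, 3), (30, 11), (50, 3), (104, 9), (79, 7), (162, 7), (130, 9), (34, 1), (104, 0), (126, 0), (84, 0), (94, 3), (13, 11), (110, 11), (100, 7), (160, 5), (82, 9), (78, 13), (13, 0), (87, 1), (56, 0), (51, 0), (134, 0), (87, 11), (122, 7), (24, 13), (148, 13), (63, 5), (109, 7), (129, 9), (90, 5), (13, 1), (94, 0), (94, 13), (16, 5), (127, 1), (26, 5), (142, 3), (103, 3), (129, 7), (124, 0), (79, 9), (80, 9), (34, 0), (129, 11), (10, 13), (69, 1), (76, 9), (48, 7), (96, 5), (83, 5), (95, 5), (129, 1), (159, 5), (64, 5), (145, 5), (131, 11), (108, 1), (50, 1), (38, 7), (38, 5), (137, 3), (147, 5), (32, 11), (103, 7), (53, 1), (62, 0), (150, 1), (149, 9), (106, 0), (37, 9), (152, 11),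 (105, 0), (149, 13), (82, 0), (139, 11), (114, 5), (12, 3), (10, 9), (55, 0), (26, 0), (95, 0), (61, 3), (34, 9), (69, 9), (98, 13), (49, 7), (82, 7), (99, 3), (33, 5), (25, 5), (153, 9), (121, 13), (96, 13), (130, 13), (44, 3), (39, 3), (131, 13), (140, 11), (60, 0), (26, 13), (128, 5), (87, 9), (146, 0), (129, 3), (87, 0), (120, 5), (62, 7), (53, 0), (69, 0), (74, 1), (121, 0), (73, 9), (112, 1), (162, 3), (153, 11), (136, 9), (49, 1), (10, 11), (46, 11), (125, 0), (94, 7), (57, 3), (162, 11), (138, 1), (30, 5), (37, 0), (28, 5), (77, 3), (97, 0), (30, 1), (141, 7)]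

/-- Conjugates of the involution, by key. -/
def ord2_3 : List (ℕ × ℕ) := [(157, 1), (15, 1), (14, 3), (14, 5), (111, 0), (119, 0), (7, 0), (85, 9), (18, 13), (79, 0), (65, 5), (92, 7), (152, 9), (35, 7), (57, 9), (80, 5), (143, 3), (52, 3), (47, 9), (74, 0), (2, 3), (70, 7), (100, 1), (123, 7), (109, 11), (77, 5), (128, 3), (4, 7), (154, 7), (64, 9), (5, 3), (42, 13), (155, 9), (88, 9), (130, 7), (132, 3), (5, 1), (50, 11), (32, 1), (45, 13), (21, 13), (115, 9), (55, 5), (59, 9), (14, 11), (17, 9), (27, 0), (85, 3), (106, 3), (156, 1), (14, 13), (8, 11), (22, 7), (143, 7), (134, 5), (37, 7), (49, 0), (88, 0), (99, 13), (153, 13), (5, 11), (65, 7), (44, 0), (67, 5), (56, 3), (125, 9), (159, 3), (72, 5), (137, 0), (117, 0), (57, 0), (120, 7), (153, 5), (56, 9), (46, 0), (59, 5), (125, 11), (52, 11), (25, 7), (136, 3), (67, 3), (95, 11), (97, 13), (8, 13), (97, 3), (85, 0), (77,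 0), (128, 11), (115, 13), (23, 1), (96, 9), (25, 1), (7, 7), (161, 11), (8, 9), (96, 0), (10, 0), (159, 1), (109, 3), (22, 13), (7, 11), (83, 3), (29, 11), (147, 7), (138, 11), (55, 7), (52, 0), (33, 3), (33, 11), (33, 9), (76, 0), (59, 11), (119, 5), (114, 9), (108, 5), (136, 0), (66, 0), (6, 9), (92, 13), (76, 3), (114, 11), (21, 7), (144, 0), (107, 13), (77, 7), (69, 11), (15, 5), (98, 1), (155, 11), (93, 11), (100, 3), (65, 11), (149, 5), (144, 13), (138, 7), (164, 0), (116, 5), (19, 3), (93, 13), (60, 9), (163, 0), (36, 13), (153, 7), (114, 0), (86, 13)]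

/-- Conjugates of the involution, by key. -/
def ord2_4 : List (ℕ × ℕ) := [(16, 0), (14, 0), (96, 11), (102, 3), (51, 7), (148, 7), (137, 7), (90, 0), (155, 5), (3, 11), (147, 3), (18, 7), (89, 3), (26, 11), (45, 11), (53, 11), (8, 5), (141, 11), (28, 11), (88, 3), (99, 11), (67, 0), (58, 0), (111, 3), (29, 3), (72, 1), (111, 5), (79, 1), (154, 13), (17, 3), (102, 9), (72, 3), (124, 7), (65, 0), (137, 11), (81, 1), (8, 7), (67, 13), (115, 7), (107, 5), (84, 3), (151, 0), (2, 7), (27, 1), (45, 5), (64, 1), (16, 3), (92, 5), (150, 5), (37, 3), (139, 0), (40, 0), (81, 13), (74, 3), (38, 13), (73, 5), (44, 11), (87, 7), (56, 13), (6, 1), (129, 13), (143, 5), (44, 1), (37, 5), (124, 13), (63, 1), (33, 1), (88, 5), (91, 3), (19, 11), (16, 9), (139, 9), (91, 5), (91, 9), (148, 0), (142, 0), (131, 7), (67, 9), (110, 9), (113, 7), (147, 9), (62, 1), (48, 1), (59, 13), (67, 1), (164, 1),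 (78, 11), (65, 3), (34, 13), (101, 0), (50, 0), (73, 7), (25, 9), (124, 11), (154, 3), (163, 7), (39, 1), (113, 3), (153, 3), (140, 13), (5, 5), (71, 13), (22, 3), (13, 3), (10, 3), (155, 3), (144, 7), (93, 3), (21, 5), (108, 13), (4, 5), (110, 13), (136, 1), (35, 3), (103, 9), (24, 5), (9, 0), (6, 3), (155, 0), (80, 13), (149, 7), (142, 9), (104, 11), (123, 3), (15, 11), (161, 9), (115, 5), (159, 0), (68, 9), (91, 7), (71, 7), (71, 5), (26, 7), (78, 1), (7, 3), (42, 5), (51, 5), (98, 3), (33, 7), (44, 13), (10, 7), (52, 5), (91, 0), (108, 9), (151, 5)]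

/-- Conjugates of the involution, by key. -/
def ord2_5 : List (ℕ × ℕ) := [(57, 11), (7, 5), (10, 5), (66, 1), (81, 5), (12, 7), (82, 5), (79, 5), (102, 0), (142, 11), (124, 5), (94, 1), (134, 1), (107, 0), (76, 1), (38, 3), (106, 11), (127, 9), (49, 13), (34, 3), (122, 3), (146, 9), (163, 3), (68, 0), (116, 3), (46, 5), (140, 3), (68, 13), (18, 5), (139, 7), (102, 11), (28, 13), (120, 3), (36, 5), (143, 11), (76, 13), (118, 3), (105, 3), (33, 13), (15, 3), (26, 1), (43, 1), (157, 3), (38, 11), (141, 1), (107, 1), (104, 7), (30, 13), (155, 13), (95, 3), (81, 9), (52, 7), (93, 1), (161, 5), (32, 3), (121, 1), (2, 0), (141, 5), (2, 9), (141, 0), (148, 5), (19, 13), (101, 11), (146, 1), (142, 13), (89, 5), (136, 7), (4, 13), (68, 3), (71, 1), (146, 11), (19, 5), (80, 0), (5, 0), (73, 11), (161, 7), (64, 7), (5, 7), (86, 11), (30, 7), (36, 11), (37, 1), (39, 7), (70, 3), (112, 0),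 (3, 3), (51, 11), (86, 3), (23, 0), (15, 0), (99, 1), (67, 7), (103, 11), (117, 5), (150, 9), (55, 3), (110, 5), (82, 13), (63, 9), (83, 1), (3, 13), (19, 0), (161, 3), (152, 0), (101, 7), (138, 9), (101, 5), (19, 9), (29, 0), (128, 0), (101, 9), (160, 11), (7, 13), (65, 1), (109, 9), (70, 1), (131, 3), (76, 7), (149, 1), (160, 1), (69, 13), (13, 7), (29, 7), (72, 9), (42, 11), (21, 1), (2, 13), (87, 13), (118, 1), (52, 9), (20, 0), (133, 0), (21, 9), (72, 11), (48, 13), (107, 3), (153, 1), (65, 9), (27, 11), (145, 1), (85, 7), (56, 1), (120, 11), (32, 9), (120, 0)]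

/-- Conjugates of the involution, by key. -/
def ord2_6 : List (ℕ × ℕ) := [(78, 5), (33, 0), (48, 3), (74, 11), (136, 11), (39, 13), (2, 11), (148, 9), (110, 0), (155, 1), (60, 1), (106, 7), (130, 0), (42, 0), (136, 13), (46, 7), (37, 13), (90, 11), (88, 13), (109, 5), (18, 9), (54, 0), (94, 5), (94, 9), (13, 9), (93, 7), (90, 1), (36, 3), (81, 11), (1, 13), (69, 3), (142, 7), (130, 5), (104, 13), (159, 7), (127, 5), (63, 3), (22, 0), (74, 13), (32, 7), (47, 1), (22, 1), (17, 1), (17, 7), (118, 7), (90, 3), (47, 3), (111, 13), (114, 13), (22, 5), (20, 5), (113, 13), (24, 9), (152, 1), (100, 0), (105, 9), (31, 9), (149, 11), (135, 0), (139, 5), (54, 3), (98, 0), (51, 9), (144, 11), (115, 0), (145, 0), (89, 1), (159, 9), (108, 0), (57, 5), (144, 5), (73, 13), (61, 9), (42, 3), (2, 5), (153, 0), (113, 1), (87, 5), (47, 5), (6, 7), (141, 3), (77, 9), (34, 11), (29, 1), (98, 7), (6,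 5), (14, 9), (74, 7), (102, 13), (49, 5), (62, 5), (4, 11), (52, 1), (113, 11), (101, 3), (113, 5), (98, 5), (103, 5), (48, 9), (11, 7), (99, 7), (146, 13), (89, 0), (39, 9), (158, 0), (28, 3), (47, 0), (50, 5), (55, 1), (16, 13), (44, 7), (154, 1), (63, 13), (92, 3), (97, 11), (70, 0), (104, 5), (24, 11), (35, 1), (86, 9), (4, 9), (64, 0), (148, 3), (149, 0), (119, 3), (21, 11), (18, 0), (128, 13), (8, 3), (121, 11), (6, 0), (123, 0), (45, 1), (95, 13), (111, 9), (4, 1), (99, 0), (20, 3), (140, 5), (108, 3), (74, 9), (27, 5), (65, 13), (126, 9), (130, 1)]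

/-- Conjugates of the involution, by key. -/
def ord2_7 : List (ℕ × ℕ) := [(36, 7), (71, 0), (25, 3), (61, 13), (73, 3), (137, 13), (81, 3), (17, 11), (0, 0), (39, 11), (86, 0), (148, 11), (12, 1), (52, 13), (1, 9), (73, 0), (119, 1), (34, 5), (138, 5), (70, 13), (105, 7), (17, 5), (18, 11), (54, 1), (123, 1), (13, 5), (147, 0), (54, 11), (80, 3), (53, 3), (159, 13), (61, 5), (128, 9), (1, 3), (38, 0), (90, 9), (110, 1), (82, 3), (144, 9), (72, 13), (36, 0), (55, 9), (91, 11), (54, 5), (92, 9), (125, 7), (117, 3), (19, 7), (84, 5), (147, 13), (61, 7), (72, 0), (49, 11), (154, 9), (68, 11), (101, 1), (102, 5), (47, 13), (51, 1), (92, 0), (95, 1), (57, 1), (51, 13), (122, 1), (152, 3), (59, 1), (82, 1), (20, 11), (106, 1), (87, 3), (137, 1), (15, 13), (128, 7), (114, 3), (119, 7), (5, 13), (15, 7), (146, 7), (138, 0), (106, 9), (162, 13), (31, 11), (38, 1), (7, 9), (14, 1), (92,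 11), (27, 9), (54, 13), (106, 5), (41, 1), (64, 11), (8, 0), (138, 3), (64, 13), (110, 7), (16, 11), (77, 13), (63, 7), (89, 13), (134, 3), (103, 13), (42, 9), (79, 11), (11, 5), (30, 9), (125, 13), (117, 1), (28, 9), (160, 3), (162, 5), (53, 9), (31, 0), (143, 9), (97, 1), (68, 7), (114, 7), (76, 11), (18, 1), (35, 0), (125, 1), (101, 13), (21, 0), (91, 1), (26, 9), (47, 7), (41, 0), (120, 9), (56, 7), (122, 0), (154, 11), (20, 9), (109, 1), (137, 5), (22, 11), (25, 11), (90, 7), (7, 1), (161, 0), (35, 5), (111, 1)]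

/-- Bounds of the chunks. -/
def bnd2 : List ℕ := [0, 0x21e6ca07e2ab74ea86277119b5c9, 0x4023626388ba756a1e9d98c8f6c5, 0x5d2e766244569f77309c37b765af, 0x7ff3e57838fca614a28f0db070b7, 0x9e2cf2336d2adc834d8395bf63f2, 0xbe7632aca9a58babddb7db4435e4, 0xe145eaa7c04354c7b8bcd5384d84, 0xffcb96a311f6ae133e9a35ff7e6d]

/-- The representatives with an element of even order. -/
def filt : List (ℕ × List ℕ × ℕ) := [(5, [0, 1, 3, 1], 0x1), (8, [0, 1, 3, 1], 0x1), (11, [0, 1], 0x8b7ef115aed2e3), (12, [1, 3], 0x33033cffc0c3f), (15, [0, 1], 0x15befd51ea5c669), (17, [1, 3], 0x24a5930059000), (18, [0, 1], 0xdc9216e1c17a03), (19, [1, 3], 0x3f068356933be4), (20, [0, 1], 0x2b829876dd0836), (31, [0, 1], 0x1d23bf3ee5a16a7), (32, [1, 3], 0x798d54aa2ae0), (33, [0, 1], 0xe1b02d58a26c8), (34, [1, 3], 0xd46a55a600a6a), (42, [0, 1], 0x15cfe2fe46bce9), (45, [0, 1], 0x17a441e1965b2b2), (47, [1, 3], 0x10862f2809bf44e),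 (50, [0, 1], 0x36bc1cced09df7), (52, [1, 3], 0x4aecc52824d2b8), (53, [1, 3], 0x1), (59, [0, 1, 1], 0x1), (62, [0, 1, 1], 0x1), (63, [0, 1], 0xa76a6c2060b00c), (64, [1, 3], 0x2c3bafc6dbe7a), (69, [0, 1], 0xf0cfc656a6a9a), (71, [1, 3], 0x1), (72, [1, 3], 0x3c4f023c5d23), (73, [1, 3], 0x27665ee818d47), (74, [0, 1, 3, 1], 0x1), (76, [0, 1], 0xd76a6ddd48eee), (77, [1, 3], 0x99ff960f), (78, [0, 1], 0x73927e1fc2eac), (79, [1, 3], 0x195d3521454e95247c0), (81, [1, 3], 0x2e85e646c4e978089e), (85, [0, 1], 0x25b353b930a443), (86, [0, 1], 0x1338d84b13e13a7), (88, [0, 1], 0x38f219c4cb9aaf), (90, [0, 1], 0x14727a38cd08c4), (93, [0, 1], 0x82697d7c1b92ee), (102, [0, 1, 3, 1], 0x1), (105, [1, 3], 0xcb82291f6937ee), (107, [0, 1], 0x1b0852250356c60), (109, [1, 3], 0x361a8db68871b), (115, [1, 3], 0x32a0894a190a0), (119, [1, 3], 0x195d3521454e95247c0), (121, [1, 3], 0x450fb3d5309242), (124, [0, 1], 0x66fd209ae8f179),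 (128, [1, 3], 0x1d357692c474f8), (129, [1, 3], 0xde08a450ff947e7bc8), (130, [1, 3], 0x336d99d646345), (139, [0, 1], 0x190afae77541c5a), (140, [0, 1], 0x833f1d1596592a), (141, [0, 1], 0x117e2c9a5ec66be), (142, [1, 3], 0x1ec3f45561022), (144, [0, 1], 0x27a5ab7b11484), (147, [0, 1], 0x189ae571a65fb4c), (148, [0, 1], 0x3ec8c5cabc275f), (152, [1, 3], 0x1a397145536de), (153, [0, 1], 0x3c5a5a5a55cc), (155, [0, 1], 0x4a5eeee952613f), (161, [1, 3], 0x31db44f6aee9)]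

/-- The remaining ones, moved to those with certificates. -/
def cover : List ((ℕ × ℕ) × ℕ × ℕ × ℕ) := [((21, 0), 21, 0, 0), ((21, 1), 21, 0, 1), ((21, 2), 21, 0, 1), ((21, 3), 21, 1, 0), ((22, 0), 22, 0, 0), ((22, 1), 22, 0, 1), ((22, 2), 22, 0, 1), ((22, 3), 22, 1, 0), ((29, 0), 29, 0, 0), ((29, 1), 29, 0, 1), ((29, 2), 29, 0, 1), ((29, 3), 29, 1, 0), ((35, 0), 35, 0, 0), ((35, 1), 35, 0, 1), ((35, 2), 35, 0, 1), ((35, 3), 35, 1, 0), ((36, 0), 36, 0, 0), ((36, 1), 36, 0, 1), ((36, 2), 36, 0, 1), ((36, 3), 36, 1, 0), ((38, 0), 38, 0, 0), ((38, 1), 38, 0, 1), ((38, 2), 38, 0, 1), ((38, 3), 38, 1, 0), ((51, 0), 51, 0, 0), ((51, 1), 51, 0, 1), ((51, 2), 51, 0, 1), ((51, 3), 51, 1, 0), ((57, 0), 57, 0, 0), ((57, 1), 57, 0, 1), ((57, 2), 57, 0, 1), ((57, 3), 57, 1, 0), ((67, 0), 67, 0, 0), ((67, 1), 67, 0, 1), ((67, 2), 67, 0, 1), ((67, 3), 67, 1, 0), ((104, 0), 104, 0, 0), ((104,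 1), 104, 0, 1), ((104, 2), 104, 0, 1), ((104, 3), 104, 1, 0), ((106, 0), 106, 0, 0), ((106, 1), 106, 0, 1), ((106, 2), 106, 0, 1), ((106, 3), 106, 1, 0), ((113, 0), 113, 0, 0), ((113, 1), 113, 0, 1), ((113, 2), 113, 0, 1), ((113, 3), 113, 1, 0)]

/-- Certificates over the normaliser of the cyclic subgroup of order 12. -/
def crt1 : List ((ℕ × ℕ) × Crt × Crt) := [((0, 1), (⟨32, [12], [30], true, 0x4d7b6bb906c9efb9f2c6aa61e488⟩, ⟨32, [13], [], false, 0x78f87b3120df2f4d4c8650d7d13f⟩)), ((0, 2), (⟨36, [], [30], true, 0xb063935d428e984ad8fa6d7fd04d⟩, ⟨1, [], [], false, 0xddfcc6530cc38d9f07119fad3bf4⟩)), ((0, 3), (⟨34, [], [30], true, 0x4bc0a5dc19685bba5b40d4c300e7⟩, ⟨1, [13], [], false, 0xaead64514f4279c8c49062ae5e51⟩)), ((1, 0), (⟨30, [], [1], true, 0x31caf8bc6540f33c17de09a073b4⟩, ⟨1, [14], [], false, 0x1033654023082e37975cbd7b20aa⟩)), ((1, 1), (⟨32, [], [], false, 0xf0b8a772f9414931544fe5662732⟩,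 ⟨30, [20], [], false, 0x126619395360e2b216235faee913⟩)), ((1, 2), (⟨30, [12], [1], true, 0x3b136ab69d5168327019ba608561⟩, ⟨30, [13], [], false, 0x33805cc6fbb220152e146dcc9a39⟩)), ((1, 3), (⟨31, [], [1], true, 0x3ebaef14ddc1db0108fb62e3ae86⟩, ⟨1, [12], [], false, 0x6b144d65111d3e8d73e8e79c9a9f⟩)), ((2, 0), (⟨32, [19], [], false, 0x5d65eb90e81f13c760e43c8ef45e⟩, ⟨1, [19], [], false, 0x992d47770e0af4c39b5515d96288⟩)), ((2, 1), (⟨34, [12], [1], true, 0x4aec107dfbda4fda9d77188e9969⟩, ⟨1, [12], [], false, 0x15e86dd4339dcff8a7d02f4f3f20⟩)), ((2, 2), (⟨31, [], [30], true, 0x89fd004f5ac9a6e706ca7e9a2f24⟩, ⟨30, [21], [], false, 0x4e70774b667fa427c5fef061fdfb⟩)), ((2, 3), (⟨1, [22], [], false, 0x39174e712fb8950a3d216f53515b⟩, ⟨1, [16], [], false, 0x663fd44144ccaa7a16a93cf929de⟩)), ((3, 0), (⟨1, [], [], false, 0x8ebd5f6f749d180307fcbc3d76a9⟩, ⟨1, [16], [], false, 0x308503b4bce576aa77d00e8ca9fa⟩)),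 ((3, 1), (⟨33, [12], [30], true, 0x16a89fff90f3d976d3f951cea4f6⟩, ⟨30, [18], [], false, 0x461e06bd99a8f5ff9bf568a161d8⟩)), ((3, 2), (⟨33, [], [30], true, 0x9d75978d5a7a9b1fb3251e6e2576⟩, ⟨1, [13], [], false, 0x1d85f0b1ffa3a0ac2384f15c9a08⟩)), ((3, 3), (⟨36, [], [1], true, 0xd7961087ae14c2f1950bd4134758⟩, ⟨32, [12], [], false, 0x67f32642647efaa946bc7c31d2f8⟩))]

/-- Certificates for inverted elements of order 3 or 5. -/
def crt2 : List ((ℕ × ℕ) × Crt × Crt) := [((21, 0), (⟨30, [15], [], false, 0x6fad5d22e05d3756ed5242536ba2⟩, ⟨30, [], [], false, 0xab5ecfd8b8733aeedb984c71c56c⟩)), ((21, 1), (⟨30, [15], [], false, 0x8f744e909660506057d201a2b50d⟩, ⟨30, [18], [], false, 0xddad8de6d3ccf6a81b2efcc302df⟩)), ((22, 0), (⟨1, [20], [], false, 0x8561857405cc7947a83cac143460⟩, ⟨1, [], [], false, 0x6fdc152ae588472d3ad94dfe1298⟩)), ((22, 1), (⟨35, [17], [1], true, 0xe4d4452ae5d5c9400b0c5adaec8⟩,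 ⟨30, [14], [], false, 0x6dda859681efc66715b8104c6736⟩)), ((29, 0), (⟨1, [15], [], false, 0xd719423c1efc29595d1f8a7e9ea2⟩, ⟨1, [17], [], false, 0xa873b51cb2b833995877e240b292⟩)), ((29, 1), (⟨32, [16], [], false, 0x80f63baa9642d5ce51daca13230b⟩, ⟨1, [14], [], false, 0xbbcc77b17422b6596ffd0156a8df⟩)), ((35, 0), (⟨32, [12], [], true, 0x86e121d20612fcfe23e67f578e29⟩, ⟨30, [12], [], false, 0xec2e3d1112bf2820e1a6543c72fb⟩)), ((35, 1), (⟨33, [], [30], true, 0xb2ea5ad7bda0a11bd38bb597bf43⟩, ⟨32, [], [], false, 0xc5912364d6e44226235633812167⟩)), ((36, 0), (⟨32, [13], [], false, 0x991edd9cfe4c6669396b752a30⟩, ⟨1, [20], [], false, 0x6f376475b05c35c4afc36d50e272⟩)), ((36, 1), (⟨36, [], [30], true, 0x2da0ebf3767140e6676f94e27760⟩, ⟨1, [18], [], false, 0x28075840afecdd9c71abdd96a9c7⟩)), ((38, 0), (⟨34, [], [31], true, 0xbafc9d5a0e7bdcba69b256f097a5⟩, ⟨1, [], [], false, 0xfee56167426d3cad275c31c5b3b7⟩)),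 ((38, 1), (⟨30, [12], [], true, 0x9233c049491ee1efc76fb261e4f6⟩, ⟨1, [12], [], false, 0xb4efc925f43fe443485f3d63affb⟩)), ((51, 0), (⟨32, [], [30], true, 0x584c91f185571cf4e8a571bc85cb⟩, ⟨31, [], [30], true, 0xcbcaedb5ee8903da002934378905⟩)), ((51, 1), (⟨31, [], [1], true, 0xa876d4f9bdf6b5771369cdd463b8⟩, ⟨1, [18], [], false, 0x7189d7fafe06d31e32bdde3c284b⟩)), ((57, 0), (⟨30, [21], [], false, 0xb8c80180bd1594d3db4dd028b85b⟩, ⟨1, [18], [], false, 0x9a0af5325b95ac16fe5e5805b7d5⟩)), ((57, 1), (⟨31, [14], [1], true, 0xf273702b62bd45e432cc3da63ccf⟩, ⟨30, [21], [], false, 0x6139e1ac5391bd37d0f1ae429116⟩)), ((67, 0), (⟨1, [13], [], false, 0x32e131f477c1610cac738a725f88⟩, ⟨30, [20], [], false, 0x6f42aaaf630efc02beefffc19e4⟩)), ((67, 1), (⟨36, [], [], true, 0xef469e69d86044b558a7831328be⟩, ⟨1, [14], [], false, 0x1b441d2e50ee2d0fbe961f19dda5⟩)), ((104, 0), (⟨34, [], [], true, 0x7f207098860f991fdd3f4519930f⟩,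 ⟨30, [17], [], false, 0x26db987d9fe583f7a7a1c47e6bc7⟩)), ((104, 1), (⟨1, [18], [], false, 0x834cdef402f1d5bbcc4d2c0d5d85⟩, ⟨36, [], [], true, 0x31cbfa781355849b9556138bcb49⟩)), ((106, 0), (⟨31, [], [1], true, 0xcff8de4394f18538d00a16aa29d6⟩, ⟨30, [13], [], false, 0xab37135f1fc3c0823196a1f23cd0⟩)), ((106, 1), (⟨32, [], [], true, 0x23b5445d764d5737153eb40df954⟩, ⟨1, [], [], false, 0x91f523d8e7c07700b07eb7d43fdd⟩)), ((113, 0), (⟨1, [20], [], false, 0xe384ae06142830317825ae7ab023⟩, ⟨1, [14], [], false, 0xa4f8ff1492a2a039f6c1a7010be0⟩)), ((113, 1), (⟨31, [14], [30], true, 0x6708d31473bb15e825ebbd6a9df7⟩, ⟨30, [22], [], false, 0xdf4bc992b54bf8e7f70a9eeb247b⟩))]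

/-- Certificates in the centraliser of order 2304. -/
def crt3 : List ((ℕ × ℕ × ℕ) × Crt × Crt) := [((7, 43, 0), (⟨32, [], [], false, 0x89833298aaeef8607c3054d709b2⟩, ⟨30, [], [1], true, 0x5acded178c45437a01269101fca0⟩)), ((7, 43, 1), (⟨34, [], [31], true, 0xdb23e2c292c795c92c9d5b5ce2af⟩, ⟨1, [19], [], false, 0x52a9e43cc62f32d0510834498e1d⟩)), ((7, 43, 2), (⟨34, [], [31], true, 0xc4c60e332104165227c963baf297⟩, ⟨1, [19], [], false, 0xc8c72646e4c88058ce8b997ca0f⟩)), ((7, 43, 3), (⟨32, [], [], false, 0x50ac36d37cdb39f09e5eb0b05ed0⟩, ⟨30, [], [1], true, 0x5ed4b7f3b2fcdec8faf52115514a⟩)), ((8, 43, 0), (⟨1, [14], [], false, 0xbd6970f0e2a95f9c4f1606477d00⟩, ⟨30, [12], [1], true, 0x35b966ea6d73f127ee3cb6e07b4f⟩)), ((8, 43, 1), (⟨1, [13], [], false, 0xd9e8cdbe856fc3e25a3679cd840⟩, ⟨30, [15], [], false, 0x8ced798cf6da1f405261211f0694⟩)), ((8, 43, 2), (⟨1, [13], [], false, 0x22d3b009a58fe5a20f0756e18582⟩,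 ⟨30, [15], [], false, 0xbb5df12bccf2bbffebd1fc579ee3⟩)), ((8, 43, 3), (⟨32, [13], [], false, 0xb52ae871d9a2197eed4520da789f⟩, ⟨33, [12], [33], true, 0x4eca966007ccbde20bf7561844cd⟩))]


end Cfsg.Lib.J4Maximal.P37
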