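import Cfsg.Agent.J4Maximal.Data.Nodes0
import Cfsg.Agent.J4Maximal.Data.Nodes1
import Cfsg.Agent.J4Maximal.Data.Nodes2
import Cfsg.Agent.J4Maximal.Data.Nodes3
import Cfsg.Agent.J4Maximal.Data.Nodes4
import Cfsg.Agent.J4Maximal.Data.Nodes5
import Cfsg.Agent.J4Maximal.Data.Nodes6

/-!
The table of the nodes and how they arise.
-/

set_option autoImplicit false
set_option maxRecDepth 8000

namespace Cfsg.Lib.J4Maximal.P37

open Cfsg.Lib.J4Cert

def ndTree0 : Tr (List ℕ) := .node (.leaf nd0) (.leaf nd512)

def ndTree1 : Tr (List ℕ) := .node ndTree0 (.leaf nd256)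

def ndTree2 : Tr (List ℕ) := .node (.leaf nd128) (.leaf nd384)

def ndTree3 : Tr (List ℕ) := .node ndTree1 ndTree2

def ndTree4 : Tr (List ℕ) := .node (.leaf nd64) (.leaf nd320)

def ndTree5 : Tr (List ℕ) := .node (.leaf nd192) (.leaf nd448)

def ndTree6 : Tr (List ℕ) := .node ndTree4 ndTree5

def ndTree7 : Tr (List ℕ) := .node ndTree3 ndTree6

def ndTree8 : Tr (List ℕ) := .node (.leaf nd32) (.leaf nd288)

def ndTree9 : Tr (List ℕ) := .node (.leaf nd160) (.leaf nd416)

def ndTree10 : Tr (List ℕ) := .node ndTree8 ndTree9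

def ndTree11 : Tr (List ℕ) := .node (.leaf nd96) (.leaf nd352)

def ndTree12 : Tr (List ℕ) := .node (.leaf nd224) (.leaf nd480)

def ndTree13 : Tr (List ℕ) := .node ndTree11 ndTree12

def ndTree14 : Tr (List ℕ) := .node ndTree10 ndTree13

def ndTree15 : Tr (List ℕ) := .node ndTree7 ndTree14

def ndTree16 : Tr (List ℕ) := .node (.leaf nd16) (.leaf nd272)

def ndTree17 : Tr (List ℕ) := .node (.leaf nd144) (.leaf nd400)

def ndTree18 : Tr (List ℕ) := .node ndTree16 ndTree17

def ndTree19 : Tr (List ℕ) := .node (.leaf nd80) (.leaf nd336)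

def ndTree20 : Tr (List ℕ) := .node (.leaf nd208) (.leaf nd464)

def ndTree21 : Tr (List ℕ) := .node ndTree19 ndTree20

def ndTree22 : Tr (List ℕ) := .node ndTree18 ndTree21

def ndTree23 : Tr (List ℕ) := .node (.leaf nd48) (.leaf nd304)

def ndTree24 : Tr (List ℕ) := .node (.leaf nd176) (.leaf nd432)

def ndTree25 : Tr (List ℕ) := .node ndTree23 ndTree24

def ndTree26 : Tr (List ℕ) := .node (.leaf nd112) (.leaf nd368)

def ndTree27 : Tr (List ℕ) := .node (.leaf nd240) (.leaf nd496)

def ndTree28 : Tr (List ℕ) := .node ndTree26 ndTree27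

def ndTree29 : Tr (List ℕ) := .node ndTree25 ndTree28

def ndTree30 : Tr (List ℕ) := .node ndTree22 ndTree29

def ndTree31 : Tr (List ℕ) := .node ndTree15 ndTree30

def ndTree32 : Tr (List ℕ) := .node (.leaf nd8) (.leaf nd520)

def ndTree33 : Tr (List ℕ) := .node ndTree32 (.leaf nd264)

def ndTree34 : Tr (List ℕ) := .node (.leaf nd136) (.leaf nd392)

def ndTree35 : Tr (List ℕ) := .node ndTree33 ndTree34

def ndTree36 : Tr (List ℕ) := .node (.leaf nd72) (.leaf nd328)

def ndTree37 : Tr (List ℕ) := .node (.leaf nd200) (.leaf nd456)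

def ndTree38 : Tr (List ℕ) := .node ndTree36 ndTree37

def ndTree39 : Tr (List ℕ) := .node ndTree35 ndTree38

def ndTree40 : Tr (List ℕ) := .node (.leaf nd40) (.leaf nd296)

def ndTree41 : Tr (List ℕ) := .node (.leaf nd168) (.leaf nd424)

def ndTree42 : Tr (List ℕ) := .node ndTree40 ndTree41

def ndTree43 : Tr (List ℕ) := .node (.leaf nd104) (.leaf nd360)

def ndTree44 : Tr (List ℕ) := .node (.leaf nd232) (.leaf nd488)

def ndTree45 : Tr (List ℕ) := .node ndTree43 ndTree44

def ndTree46 : Tr (List ℕ) := .node ndTree42 ndTree45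

def ndTree47 : Tr (List ℕ) := .node ndTree39 ndTree46

def ndTree48 : Tr (List ℕ) := .node (.leaf nd24) (.leaf nd280)

def ndTree49 : Tr (List ℕ) := .node (.leaf nd152) (.leaf nd408)

def ndTree50 : Tr (List ℕ) := .node ndTree48 ndTree49

def ndTree51 : Tr (List ℕ) := .node (.leaf nd88) (.leaf nd344)

def ndTree52 : Tr (List ℕ) := .node (.leaf nd216) (.leaf nd472)

def ndTree53 : Tr (List ℕ) := .node ndTree51 ndTree52

def ndTree54 : Tr (List ℕ) := .node ndTree50 ndTree53

def ndTree55 : Tr (List ℕ) := .node (.leaf nd56) (.leaf nd312)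

def ndTree56 : Tr (List ℕ) := .node (.leaf nd184) (.leaf nd440)

def ndTree57 : Tr (List ℕ) := .node ndTree55 ndTree56

def ndTree58 : Tr (List ℕ) := .node (.leaf nd120) (.leaf nd376)

def ndTree59 : Tr (List ℕ) := .node (.leaf nd248) (.leaf nd504)

def ndTree60 : Tr (List ℕ) := .node ndTree58 ndTree59

def ndTree61 : Tr (List ℕ) := .node ndTree57 ndTree60

def ndTree62 : Tr (List ℕ) := .node ndTree54 ndTree61

def ndTree63 : Tr (List ℕ) := .node ndTree47 ndTree62

def ndTree64 : Tr (List ℕ) := .node ndTree31 ndTree63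

def ndTree65 : Tr (List ℕ) := .node (.leaf nd4) (.leaf nd516)

def ndTree66 : Tr (List ℕ) := .node ndTree65 (.leaf nd260)

def ndTree67 : Tr (List ℕ) := .node (.leaf nd132) (.leaf nd388)

def ndTree68 : Tr (List ℕ) := .node ndTree66 ndTree67

def ndTree69 : Tr (List ℕ) := .node (.leaf nd68) (.leaf nd324)

def ndTree70 : Tr (List ℕ) := .node (.leaf nd196) (.leaf nd452)

def ndTree71 : Tr (List ℕ) := .node ndTree69 ndTree70

def ndTree72 : Tr (List ℕ) := .node ndTree68 ndTree71

def ndTree73 : Tr (List ℕ) := .node (.leaf nd36) (.leaf nd292)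

def ndTree74 : Tr (List ℕ) := .node (.leaf nd164) (.leaf nd420)

def ndTree75 : Tr (List ℕ) := .node ndTree73 ndTree74

def ndTree76 : Tr (List ℕ) := .node (.leaf nd100) (.leaf nd356)

def ndTree77 : Tr (List ℕ) := .node (.leaf nd228) (.leaf nd484)

def ndTree78 : Tr (List ℕ) := .node ndTree76 ndTree77

def ndTree79 : Tr (List ℕ) := .node ndTree75 ndTree78

def ndTree80 : Tr (List ℕ) := .node ndTree72 ndTree79

def ndTree81 : Tr (List ℕ) := .node (.leaf nd20) (.leaf nd276)

def ndTree82 : Tr (List ℕ) := .node (.leaf nd148) (.leaf nd404)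

def ndTree83 : Tr (List ℕ) := .node ndTree81 ndTree82

def ndTree84 : Tr (List ℕ) := .node (.leaf nd84) (.leaf nd340)

def ndTree85 : Tr (List ℕ) := .node (.leaf nd212) (.leaf nd468)

def ndTree86 : Tr (List ℕ) := .node ndTree84 ndTree85

def ndTree87 : Tr (List ℕ) := .node ndTree83 ndTree86

def ndTree88 : Tr (List ℕ) := .node (.leaf nd52) (.leaf nd308)

def ndTree89 : Tr (List ℕ) := .node (.leaf nd180) (.leaf nd436)

def ndTree90 : Tr (List ℕ) := .node ndTree88 ndTree89

def ndTree91 : Tr (List ℕ) := .node (.leaf nd116) (.leaf nd372)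

def ndTree92 : Tr (List ℕ) := .node (.leaf nd244) (.leaf nd500)

def ndTree93 : Tr (List ℕ) := .node ndTree91 ndTree92

def ndTree94 : Tr (List ℕ) := .node ndTree90 ndTree93

def ndTree95 : Tr (List ℕ) := .node ndTree87 ndTree94

def ndTree96 : Tr (List ℕ) := .node ndTree80 ndTree95

def ndTree97 : Tr (List ℕ) := .node (.leaf nd12) (.leaf nd268)

def ndTree98 : Tr (List ℕ) := .node (.leaf nd140) (.leaf nd396)

def ndTree99 : Tr (List ℕ) := .node ndTree97 ndTree98

def ndTree100 : Tr (List ℕ) := .node (.leaf nd76) (.leaf nd332)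

def ndTree101 : Tr (List ℕ) := .node (.leaf nd204) (.leaf nd460)

def ndTree102 : Tr (List ℕ) := .node ndTree100 ndTree101

def ndTree103 : Tr (List ℕ) := .node ndTree99 ndTree102

def ndTree104 : Tr (List ℕ) := .node (.leaf nd44) (.leaf nd300)

def ndTree105 : Tr (List ℕ) := .node (.leaf nd172) (.leaf nd428)

def ndTree106 : Tr (List ℕ) := .node ndTree104 ndTree105

def ndTree107 : Tr (List ℕ) := .node (.leaf nd108) (.leaf nd364)

def ndTree108 : Tr (List ℕ) := .node (.leaf nd236) (.leaf nd492)

def ndTree109 : Tr (List ℕ) := .node ndTree107 ndTree108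

def ndTree110 : Tr (List ℕ) := .node ndTree106 ndTree109

def ndTree111 : Tr (List ℕ) := .node ndTree103 ndTree110

def ndTree112 : Tr (List ℕ) := .node (.leaf nd28) (.leaf nd284)

def ndTree113 : Tr (List ℕ) := .node (.leaf nd156) (.leaf nd412)

def ndTree114 : Tr (List ℕ) := .node ndTree112 ndTree113

def ndTree115 : Tr (List ℕ) := .node (.leaf nd92) (.leaf nd348)

def ndTree116 : Tr (List ℕ) := .node (.leaf nd220) (.leaf nd476)

def ndTree117 : Tr (List ℕ) := .node ndTree115 ndTree116

def ndTree118 : Tr (List ℕ) := .node ndTree114 ndTree117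

def ndTree119 : Tr (List ℕ) := .node (.leaf nd60) (.leaf nd316)

def ndTree120 : Tr (List ℕ) := .node (.leaf nd188) (.leaf nd444)

def ndTree121 : Tr (List ℕ) := .node ndTree119 ndTree120

def ndTree122 : Tr (List ℕ) := .node (.leaf nd124) (.leaf nd380)

def ndTree123 : Tr (List ℕ) := .node (.leaf nd252) (.leaf nd508)

def ndTree124 : Tr (List ℕ) := .node ndTree122 ndTree123

def ndTree125 : Tr (List ℕ) := .node ndTree121 ndTree124

def ndTree126 : Tr (List ℕ) := .node ndTree118 ndTree125

def ndTree127 : Tr (List ℕ) := .node ndTree111 ndTree126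

def ndTree128 : Tr (List ℕ) := .node ndTree96 ndTree127

def ndTree129 : Tr (List ℕ) := .node ndTree64 ndTree128

def ndTree130 : Tr (List ℕ) := .node (.leaf nd2) (.leaf nd514)

def ndTree131 : Tr (List ℕ) := .node ndTree130 (.leaf nd258)

def ndTree132 : Tr (List ℕ) := .node (.leaf nd130) (.leaf nd386)

def ndTree133 : Tr (List ℕ) := .node ndTree131 ndTree132

def ndTree134 : Tr (List ℕ) := .node (.leaf nd66) (.leaf nd322)

def ndTree135 : Tr (List ℕ) := .node (.leaf nd194) (.leaf nd450)

def ndTree136 : Tr (List ℕ) := .node ndTree134 ndTree135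

def ndTree137 : Tr (List ℕ) := .node ndTree133 ndTree136

def ndTree138 : Tr (List ℕ) := .node (.leaf nd34) (.leaf nd290)

def ndTree139 : Tr (List ℕ) := .node (.leaf nd162) (.leaf nd418)

def ndTree140 : Tr (List ℕ) := .node ndTree138 ndTree139

def ndTree141 : Tr (List ℕ) := .node (.leaf nd98) (.leaf nd354)

def ndTree142 : Tr (List ℕ) := .node (.leaf nd226) (.leaf nd482)

def ndTree143 : Tr (List ℕ) := .node ndTree141 ndTree142

def ndTree144 : Tr (List ℕ) := .node ndTree140 ndTree143

def ndTree145 : Tr (List ℕ) := .node ndTree137 ndTree144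

def ndTree146 : Tr (List ℕ) := .node (.leaf nd18) (.leaf nd274)

def ndTree147 : Tr (List ℕ) := .node (.leaf nd146) (.leaf nd402)

def ndTree148 : Tr (List ℕ) := .node ndTree146 ndTree147

def ndTree149 : Tr (List ℕ) := .node (.leaf nd82) (.leaf nd338)

def ndTree150 : Tr (List ℕ) := .node (.leaf nd210) (.leaf nd466)

def ndTree151 : Tr (List ℕ) := .node ndTree149 ndTree150

def ndTree152 : Tr (List ℕ) := .node ndTree148 ndTree151

def ndTree153 : Tr (List ℕ) := .node (.leaf nd50) (.leaf nd306)

def ndTree154 : Tr (List ℕ) := .node (.leaf nd178) (.leaf nd434)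

def ndTree155 : Tr (List ℕ) := .node ndTree153 ndTree154

def ndTree156 : Tr (List ℕ) := .node (.leaf nd114) (.leaf nd370)

def ndTree157 : Tr (List ℕ) := .node (.leaf nd242) (.leaf nd498)

def ndTree158 : Tr (List ℕ) := .node ndTree156 ndTree157

def ndTree159 : Tr (List ℕ) := .node ndTree155 ndTree158

def ndTree160 : Tr (List ℕ) := .node ndTree152 ndTree159

def ndTree161 : Tr (List ℕ) := .node ndTree145 ndTree160

def ndTree162 : Tr (List ℕ) := .node (.leaf nd10) (.leaf nd266)

def ndTree163 : Tr (List ℕ) := .node (.leaf nd138) (.leaf nd394)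

def ndTree164 : Tr (List ℕ) := .node ndTree162 ndTree163

def ndTree165 : Tr (List ℕ) := .node (.leaf nd74) (.leaf nd330)

def ndTree166 : Tr (List ℕ) := .node (.leaf nd202) (.leaf nd458)

def ndTree167 : Tr (List ℕ) := .node ndTree165 ndTree166

def ndTree168 : Tr (List ℕ) := .node ndTree164 ndTree167

def ndTree169 : Tr (List ℕ) := .node (.leaf nd42) (.leaf nd298)

def ndTree170 : Tr (List ℕ) := .node (.leaf nd170) (.leaf nd426)

def ndTree171 : Tr (List ℕ) := .node ndTree169 ndTree170

def ndTree172 : Tr (List ℕ) := .node (.leaf nd106) (.leaf nd362)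

def ndTree173 : Tr (List ℕ) := .node (.leaf nd234) (.leaf nd490)

def ndTree174 : Tr (List ℕ) := .node ndTree172 ndTree173

def ndTree175 : Tr (List ℕ) := .node ndTree171 ndTree174

def ndTree176 : Tr (List ℕ) := .node ndTree168 ndTree175

def ndTree177 : Tr (List ℕ) := .node (.leaf nd26) (.leaf nd282)

def ndTree178 : Tr (List ℕ) := .node (.leaf nd154) (.leaf nd410)

def ndTree179 : Tr (List ℕ) := .node ndTree177 ndTree178

def ndTree180 : Tr (List ℕ) := .node (.leaf nd90) (.leaf nd346)

def ndTree181 : Tr (List ℕ) := .node (.leaf nd218) (.leaf nd474)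

def ndTree182 : Tr (List ℕ) := .node ndTree180 ndTree181

def ndTree183 : Tr (List ℕ) := .node ndTree179 ndTree182

def ndTree184 : Tr (List ℕ) := .node (.leaf nd58) (.leaf nd314)

def ndTree185 : Tr (List ℕ) := .node (.leaf nd186) (.leaf nd442)

def ndTree186 : Tr (List ℕ) := .node ndTree184 ndTree185

def ndTree187 : Tr (List ℕ) := .node (.leaf nd122) (.leaf nd378)

def ndTree188 : Tr (List ℕ) := .node (.leaf nd250) (.leaf nd506)

def ndTree189 : Tr (List ℕ) := .node ndTree187 ndTree188

def ndTree190 : Tr (List ℕ) := .node ndTree186 ndTree189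

def ndTree191 : Tr (List ℕ) := .node ndTree183 ndTree190

def ndTree192 : Tr (List ℕ) := .node ndTree176 ndTree191

def ndTree193 : Tr (List ℕ) := .node ndTree161 ndTree192

def ndTree194 : Tr (List ℕ) := .node (.leaf nd6) (.leaf nd518)

def ndTree195 : Tr (List ℕ) := .node ndTree194 (.leaf nd262)

def ndTree196 : Tr (List ℕ) := .node (.leaf nd134) (.leaf nd390)

def ndTree197 : Tr (List ℕ) := .node ndTree195 ndTree196

def ndTree198 : Tr (List ℕ) := .node (.leaf nd70) (.leaf nd326)

def ndTree199 : Tr (List ℕ) := .node (.leaf nd198) (.leaf nd454)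

def ndTree200 : Tr (List ℕ) := .node ndTree198 ndTree199

def ndTree201 : Tr (List ℕ) := .node ndTree197 ndTree200

def ndTree202 : Tr (List ℕ) := .node (.leaf nd38) (.leaf nd294)

def ndTree203 : Tr (List ℕ) := .node (.leaf nd166) (.leaf nd422)

def ndTree204 : Tr (List ℕ) := .node ndTree202 ndTree203

def ndTree205 : Tr (List ℕ) := .node (.leaf nd102) (.leaf nd358)

def ndTree206 : Tr (List ℕ) := .node (.leaf nd230) (.leaf nd486)

def ndTree207 : Tr (List ℕ) := .node ndTree205 ndTree206

def ndTree208 : Tr (List ℕ) := .node ndTree204 ndTree207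

def ndTree209 : Tr (List ℕ) := .node ndTree201 ndTree208

def ndTree210 : Tr (List ℕ) := .node (.leaf nd22) (.leaf nd278)

def ndTree211 : Tr (List ℕ) := .node (.leaf nd150) (.leaf nd406)

def ndTree212 : Tr (List ℕ) := .node ndTree210 ndTree211

def ndTree213 : Tr (List ℕ) := .node (.leaf nd86) (.leaf nd342)

def ndTree214 : Tr (List ℕ) := .node (.leaf nd214) (.leaf nd470)

def ndTree215 : Tr (List ℕ) := .node ndTree213 ndTree214

def ndTree216 : Tr (List ℕ) := .node ndTree212 ndTree215

def ndTree217 : Tr (List ℕ) := .node (.leaf nd54) (.leaf nd310)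

def ndTree218 : Tr (List ℕ) := .node (.leaf nd182) (.leaf nd438)

def ndTree219 : Tr (List ℕ) := .node ndTree217 ndTree218

def ndTree220 : Tr (List ℕ) := .node (.leaf nd118) (.leaf nd374)

def ndTree221 : Tr (List ℕ) := .node (.leaf nd246) (.leaf nd502)

def ndTree222 : Tr (List ℕ) := .node ndTree220 ndTree221

def ndTree223 : Tr (List ℕ) := .node ndTree219 ndTree222

def ndTree224 : Tr (List ℕ) := .node ndTree216 ndTree223

def ndTree225 : Tr (List ℕ) := .node ndTree209 ndTree224

def ndTree226 : Tr (List ℕ) := .node (.leaf nd14) (.leaf nd270)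

def ndTree227 : Tr (List ℕ) := .node (.leaf nd142) (.leaf nd398)

def ndTree228 : Tr (List ℕ) := .node ndTree226 ndTree227

def ndTree229 : Tr (List ℕ) := .node (.leaf nd78) (.leaf nd334)

def ndTree230 : Tr (List ℕ) := .node (.leaf nd206) (.leaf nd462)

def ndTree231 : Tr (List ℕ) := .node ndTree229 ndTree230

def ndTree232 : Tr (List ℕ) := .node ndTree228 ndTree231

def ndTree233 : Tr (List ℕ) := .node (.leaf nd46) (.leaf nd302)

def ndTree234 : Tr (List ℕ) := .node (.leaf nd174) (.leaf nd430)

def ndTree235 : Tr (List ℕ) := .node ndTree233 ndTree234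

def ndTree236 : Tr (List ℕ) := .node (.leaf nd110) (.leaf nd366)

def ndTree237 : Tr (List ℕ) := .node (.leaf nd238) (.leaf nd494)

def ndTree238 : Tr (List ℕ) := .node ndTree236 ndTree237

def ndTree239 : Tr (List ℕ) := .node ndTree235 ndTree238

def ndTree240 : Tr (List ℕ) := .node ndTree232 ndTree239

def ndTree241 : Tr (List ℕ) := .node (.leaf nd30) (.leaf nd286)

def ndTree242 : Tr (List ℕ) := .node (.leaf nd158) (.leaf nd414)

def ndTree243 : Tr (List ℕ) := .node ndTree241 ndTree242

def ndTree244 : Tr (List ℕ) := .node (.leaf nd94) (.leaf nd350)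

def ndTree245 : Tr (List ℕ) := .node (.leaf nd222) (.leaf nd478)

def ndTree246 : Tr (List ℕ) := .node ndTree244 ndTree245

def ndTree247 : Tr (List ℕ) := .node ndTree243 ndTree246

def ndTree248 : Tr (List ℕ) := .node (.leaf nd62) (.leaf nd318)

def ndTree249 : Tr (List ℕ) := .node (.leaf nd190) (.leaf nd446)

def ndTree250 : Tr (List ℕ) := .node ndTree248 ndTree249

def ndTree251 : Tr (List ℕ) := .node (.leaf nd126) (.leaf nd382)

def ndTree252 : Tr (List ℕ) := .node (.leaf nd254) (.leaf nd510)

def ndTree253 : Tr (List ℕ) := .node ndTree251 ndTree252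

def ndTree254 : Tr (List ℕ) := .node ndTree250 ndTree253

def ndTree255 : Tr (List ℕ) := .node ndTree247 ndTree254

def ndTree256 : Tr (List ℕ) := .node ndTree240 ndTree255

def ndTree257 : Tr (List ℕ) := .node ndTree225 ndTree256

def ndTree258 : Tr (List ℕ) := .node ndTree193 ndTree257

def ndTree259 : Tr (List ℕ) := .node ndTree129 ndTree258

def ndTree260 : Tr (List ℕ) := .node (.leaf nd1) (.leaf nd513)

def ndTree261 : Tr (List ℕ) := .node ndTree260 (.leaf nd257)

def ndTree262 : Tr (List ℕ) := .node (.leaf nd129) (.leaf nd385)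

def ndTree263 : Tr (List ℕ) := .node ndTree261 ndTree262

def ndTree264 : Tr (List ℕ) := .node (.leaf nd65) (.leaf nd321)

def ndTree265 : Tr (List ℕ) := .node (.leaf nd193) (.leaf nd449)

def ndTree266 : Tr (List ℕ) := .node ndTree264 ndTree265

def ndTree267 : Tr (List ℕ) := .node ndTree263 ndTree266

def ndTree268 : Tr (List ℕ) := .node (.leaf nd33) (.leaf nd289)

def ndTree269 : Tr (List ℕ) := .node (.leaf nd161) (.leaf nd417)

def ndTree270 : Tr (List ℕ) := .node ndTree268 ndTree269

def ndTree271 : Tr (List ℕ) := .node (.leaf nd97) (.leaf nd353)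

def ndTree272 : Tr (List ℕ) := .node (.leaf nd225) (.leaf nd481)

def ndTree273 : Tr (List ℕ) := .node ndTree271 ndTree272

def ndTree274 : Tr (List ℕ) := .node ndTree270 ndTree273

def ndTree275 : Tr (List ℕ) := .node ndTree267 ndTree274

def ndTree276 : Tr (List ℕ) := .node (.leaf nd17) (.leaf nd273)

def ndTree277 : Tr (List ℕ) := .node (.leaf nd145) (.leaf nd401)

def ndTree278 : Tr (List ℕ) := .node ndTree276 ndTree277

def ndTree279 : Tr (List ℕ) := .node (.leaf nd81) (.leaf nd337)

def ndTree280 : Tr (List ℕ) := .node (.leaf nd209) (.leaf nd465)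

def ndTree281 : Tr (List ℕ) := .node ndTree279 ndTree280

def ndTree282 : Tr (List ℕ) := .node ndTree278 ndTree281

def ndTree283 : Tr (List ℕ) := .node (.leaf nd49) (.leaf nd305)

def ndTree284 : Tr (List ℕ) := .node (.leaf nd177) (.leaf nd433)

def ndTree285 : Tr (List ℕ) := .node ndTree283 ndTree284

def ndTree286 : Tr (List ℕ) := .node (.leaf nd113) (.leaf nd369)

def ndTree287 : Tr (List ℕ) := .node (.leaf nd241) (.leaf nd497)

def ndTree288 : Tr (List ℕ) := .node ndTree286 ndTree287

def ndTree289 : Tr (List ℕ) := .node ndTree285 ndTree288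

def ndTree290 : Tr (List ℕ) := .node ndTree282 ndTree289

def ndTree291 : Tr (List ℕ) := .node ndTree275 ndTree290

def ndTree292 : Tr (List ℕ) := .node (.leaf nd9) (.leaf nd521)

def ndTree293 : Tr (List ℕ) := .node ndTree292 (.leaf nd265)

def ndTree294 : Tr (List ℕ) := .node (.leaf nd137) (.leaf nd393)

def ndTree295 : Tr (List ℕ) := .node ndTree293 ndTree294

def ndTree296 : Tr (List ℕ) := .node (.leaf nd73) (.leaf nd329)

def ndTree297 : Tr (List ℕ) := .node (.leaf nd201) (.leaf nd457)

def ndTree298 : Tr (List ℕ) := .node ndTree296 ndTree297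

def ndTree299 : Tr (List ℕ) := .node ndTree295 ndTree298

def ndTree300 : Tr (List ℕ) := .node (.leaf nd41) (.leaf nd297)

def ndTree301 : Tr (List ℕ) := .node (.leaf nd169) (.leaf nd425)

def ndTree302 : Tr (List ℕ) := .node ndTree300 ndTree301

def ndTree303 : Tr (List ℕ) := .node (.leaf nd105) (.leaf nd361)

def ndTree304 : Tr (List ℕ) := .node (.leaf nd233) (.leaf nd489)

def ndTree305 : Tr (List ℕ) := .node ndTree303 ndTree304

def ndTree306 : Tr (List ℕ) := .node ndTree302 ndTree305

def ndTree307 : Tr (List ℕ) := .node ndTree299 ndTree306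

def ndTree308 : Tr (List ℕ) := .node (.leaf nd25) (.leaf nd281)

def ndTree309 : Tr (List ℕ) := .node (.leaf nd153) (.leaf nd409)

def ndTree310 : Tr (List ℕ) := .node ndTree308 ndTree309

def ndTree311 : Tr (List ℕ) := .node (.leaf nd89) (.leaf nd345)

def ndTree312 : Tr (List ℕ) := .node (.leaf nd217) (.leaf nd473)

def ndTree313 : Tr (List ℕ) := .node ndTree311 ndTree312

def ndTree314 : Tr (List ℕ) := .node ndTree310 ndTree313

def ndTree315 : Tr (List ℕ) := .node (.leaf nd57) (.leaf nd313)

def ndTree316 : Tr (List ℕ) := .node (.leaf nd185) (.leaf nd441)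

def ndTree317 : Tr (List ℕ) := .node ndTree315 ndTree316

def ndTree318 : Tr (List ℕ) := .node (.leaf nd121) (.leaf nd377)

def ndTree319 : Tr (List ℕ) := .node (.leaf nd249) (.leaf nd505)

def ndTree320 : Tr (List ℕ) := .node ndTree318 ndTree319

def ndTree321 : Tr (List ℕ) := .node ndTree317 ndTree320

def ndTree322 : Tr (List ℕ) := .node ndTree314 ndTree321

def ndTree323 : Tr (List ℕ) := .node ndTree307 ndTree322

def ndTree324 : Tr (List ℕ) := .node ndTree291 ndTree323

def ndTree325 : Tr (List ℕ) := .node (.leaf nd5) (.leaf nd517)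

def ndTree326 : Tr (List ℕ) := .node ndTree325 (.leaf nd261)

def ndTree327 : Tr (List ℕ) := .node (.leaf nd133) (.leaf nd389)

def ndTree328 : Tr (List ℕ) := .node ndTree326 ndTree327

def ndTree329 : Tr (List ℕ) := .node (.leaf nd69) (.leaf nd325)

def ndTree330 : Tr (List ℕ) := .node (.leaf nd197) (.leaf nd453)

def ndTree331 : Tr (List ℕ) := .node ndTree329 ndTree330

def ndTree332 : Tr (List ℕ) := .node ndTree328 ndTree331

def ndTree333 : Tr (List ℕ) := .node (.leaf nd37) (.leaf nd293)

def ndTree334 : Tr (List ℕ) := .node (.leaf nd165) (.leaf nd421)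

def ndTree335 : Tr (List ℕ) := .node ndTree333 ndTree334

def ndTree336 : Tr (List ℕ) := .node (.leaf nd101) (.leaf nd357)

def ndTree337 : Tr (List ℕ) := .node (.leaf nd229) (.leaf nd485)

def ndTree338 : Tr (List ℕ) := .node ndTree336 ndTree337

def ndTree339 : Tr (List ℕ) := .node ndTree335 ndTree338

def ndTree340 : Tr (List ℕ) := .node ndTree332 ndTree339

def ndTree341 : Tr (List ℕ) := .node (.leaf nd21) (.leaf nd277)

def ndTree342 : Tr (List ℕ) := .node (.leaf nd149) (.leaf nd405)

def ndTree343 : Tr (List ℕ) := .node ndTree341 ndTree342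

def ndTree344 : Tr (List ℕ) := .node (.leaf nd85) (.leaf nd341)

def ndTree345 : Tr (List ℕ) := .node (.leaf nd213) (.leaf nd469)

def ndTree346 : Tr (List ℕ) := .node ndTree344 ndTree345

def ndTree347 : Tr (List ℕ) := .node ndTree343 ndTree346

def ndTree348 : Tr (List ℕ) := .node (.leaf nd53) (.leaf nd309)

def ndTree349 : Tr (List ℕ) := .node (.leaf nd181) (.leaf nd437)

def ndTree350 : Tr (List ℕ) := .node ndTree348 ndTree349

def ndTree351 : Tr (List ℕ) := .node (.leaf nd117) (.leaf nd373)

def ndTree352 : Tr (List ℕ) := .node (.leaf nd245) (.leaf nd501)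

def ndTree353 : Tr (List ℕ) := .node ndTree351 ndTree352

def ndTree354 : Tr (List ℕ) := .node ndTree350 ndTree353

def ndTree355 : Tr (List ℕ) := .node ndTree347 ndTree354

def ndTree356 : Tr (List ℕ) := .node ndTree340 ndTree355

def ndTree357 : Tr (List ℕ) := .node (.leaf nd13) (.leaf nd269)

def ndTree358 : Tr (List ℕ) := .node (.leaf nd141) (.leaf nd397)

def ndTree359 : Tr (List ℕ) := .node ndTree357 ndTree358

def ndTree360 : Tr (List ℕ) := .node (.leaf nd77) (.leaf nd333)

def ndTree361 : Tr (List ℕ) := .node (.leaf nd205) (.leaf nd461)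

def ndTree362 : Tr (List ℕ) := .node ndTree360 ndTree361

def ndTree363 : Tr (List ℕ) := .node ndTree359 ndTree362

def ndTree364 : Tr (List ℕ) := .node (.leaf nd45) (.leaf nd301)

def ndTree365 : Tr (List ℕ) := .node (.leaf nd173) (.leaf nd429)

def ndTree366 : Tr (List ℕ) := .node ndTree364 ndTree365

def ndTree367 : Tr (List ℕ) := .node (.leaf nd109) (.leaf nd365)

def ndTree368 : Tr (List ℕ) := .node (.leaf nd237) (.leaf nd493)

def ndTree369 : Tr (List ℕ) := .node ndTree367 ndTree368

def ndTree370 : Tr (List ℕ) := .node ndTree366 ndTree369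

def ndTree371 : Tr (List ℕ) := .node ndTree363 ndTree370

def ndTree372 : Tr (List ℕ) := .node (.leaf nd29) (.leaf nd285)

def ndTree373 : Tr (List ℕ) := .node (.leaf nd157) (.leaf nd413)

def ndTree374 : Tr (List ℕ) := .node ndTree372 ndTree373

def ndTree375 : Tr (List ℕ) := .node (.leaf nd93) (.leaf nd349)

def ndTree376 : Tr (List ℕ) := .node (.leaf nd221) (.leaf nd477)

def ndTree377 : Tr (List ℕ) := .node ndTree375 ndTree376

def ndTree378 : Tr (List ℕ) := .node ndTree374 ndTree377

def ndTree379 : Tr (List ℕ) := .node (.leaf nd61) (.leaf nd317)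

def ndTree380 : Tr (List ℕ) := .node (.leaf nd189) (.leaf nd445)

def ndTree381 : Tr (List ℕ) := .node ndTree379 ndTree380

def ndTree382 : Tr (List ℕ) := .node (.leaf nd125) (.leaf nd381)

def ndTree383 : Tr (List ℕ) := .node (.leaf nd253) (.leaf nd509)

def ndTree384 : Tr (List ℕ) := .node ndTree382 ndTree383

def ndTree385 : Tr (List ℕ) := .node ndTree381 ndTree384

def ndTree386 : Tr (List ℕ) := .node ndTree378 ndTree385

def ndTree387 : Tr (List ℕ) := .node ndTree371 ndTree386

def ndTree388 : Tr (List ℕ) := .node ndTree356 ndTree387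

def ndTree389 : Tr (List ℕ) := .node ndTree324 ndTree388

def ndTree390 : Tr (List ℕ) := .node (.leaf nd3) (.leaf nd515)

def ndTree391 : Tr (List ℕ) := .node ndTree390 (.leaf nd259)

def ndTree392 : Tr (List ℕ) := .node (.leaf nd131) (.leaf nd387)

def ndTree393 : Tr (List ℕ) := .node ndTree391 ndTree392

def ndTree394 : Tr (List ℕ) := .node (.leaf nd67) (.leaf nd323)

def ndTree395 : Tr (List ℕ) := .node (.leaf nd195) (.leaf nd451)

def ndTree396 : Tr (List ℕ) := .node ndTree394 ndTree395

def ndTree397 : Tr (List ℕ) := .node ndTree393 ndTree396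

def ndTree398 : Tr (List ℕ) := .node (.leaf nd35) (.leaf nd291)

def ndTree399 : Tr (List ℕ) := .node (.leaf nd163) (.leaf nd419)

def ndTree400 : Tr (List ℕ) := .node ndTree398 ndTree399

def ndTree401 : Tr (List ℕ) := .node (.leaf nd99) (.leaf nd355)

def ndTree402 : Tr (List ℕ) := .node (.leaf nd227) (.leaf nd483)

def ndTree403 : Tr (List ℕ) := .node ndTree401 ndTree402

def ndTree404 : Tr (List ℕ) := .node ndTree400 ndTree403

def ndTree405 : Tr (List ℕ) := .node ndTree397 ndTree404

def ndTree406 : Tr (List ℕ) := .node (.leaf nd19) (.leaf nd275)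

def ndTree407 : Tr (List ℕ) := .node (.leaf nd147) (.leaf nd403)

def ndTree408 : Tr (List ℕ) := .node ndTree406 ndTree407

def ndTree409 : Tr (List ℕ) := .node (.leaf nd83) (.leaf nd339)

def ndTree410 : Tr (List ℕ) := .node (.leaf nd211) (.leaf nd467)

def ndTree411 : Tr (List ℕ) := .node ndTree409 ndTree410

def ndTree412 : Tr (List ℕ) := .node ndTree408 ndTree411

def ndTree413 : Tr (List ℕ) := .node (.leaf nd51) (.leaf nd307)

def ndTree414 : Tr (List ℕ) := .node (.leaf nd179) (.leaf nd435)

def ndTree415 : Tr (List ℕ) := .node ndTree413 ndTree414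

def ndTree416 : Tr (List ℕ) := .node (.leaf nd115) (.leaf nd371)

def ndTree417 : Tr (List ℕ) := .node (.leaf nd243) (.leaf nd499)

def ndTree418 : Tr (List ℕ) := .node ndTree416 ndTree417

def ndTree419 : Tr (List ℕ) := .node ndTree415 ndTree418

def ndTree420 : Tr (List ℕ) := .node ndTree412 ndTree419

def ndTree421 : Tr (List ℕ) := .node ndTree405 ndTree420

def ndTree422 : Tr (List ℕ) := .node (.leaf nd11) (.leaf nd267)

def ndTree423 : Tr (List ℕ) := .node (.leaf nd139) (.leaf nd395)

def ndTree424 : Tr (List ℕ) := .node ndTree422 ndTree423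

def ndTree425 : Tr (List ℕ) := .node (.leaf nd75) (.leaf nd331)

def ndTree426 : Tr (List ℕ) := .node (.leaf nd203) (.leaf nd459)

def ndTree427 : Tr (List ℕ) := .node ndTree425 ndTree426

def ndTree428 : Tr (List ℕ) := .node ndTree424 ndTree427

def ndTree429 : Tr (List ℕ) := .node (.leaf nd43) (.leaf nd299)

def ndTree430 : Tr (List ℕ) := .node (.leaf nd171) (.leaf nd427)

def ndTree431 : Tr (List ℕ) := .node ndTree429 ndTree430

def ndTree432 : Tr (List ℕ) := .node (.leaf nd107) (.leaf nd363)

def ndTree433 : Tr (List ℕ) := .node (.leaf nd235) (.leaf nd491)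

def ndTree434 : Tr (List ℕ) := .node ndTree432 ndTree433

def ndTree435 : Tr (List ℕ) := .node ndTree431 ndTree434

def ndTree436 : Tr (List ℕ) := .node ndTree428 ndTree435

def ndTree437 : Tr (List ℕ) := .node (.leaf nd27) (.leaf nd283)

def ndTree438 : Tr (List ℕ) := .node (.leaf nd155) (.leaf nd411)

def ndTree439 : Tr (List ℕ) := .node ndTree437 ndTree438

def ndTree440 : Tr (List ℕ) := .node (.leaf nd91) (.leaf nd347)

def ndTree441 : Tr (List ℕ) := .node (.leaf nd219) (.leaf nd475)

def ndTree442 : Tr (List ℕ) := .node ndTree440 ndTree441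

def ndTree443 : Tr (List ℕ) := .node ndTree439 ndTree442

def ndTree444 : Tr (List ℕ) := .node (.leaf nd59) (.leaf nd315)

def ndTree445 : Tr (List ℕ) := .node (.leaf nd187) (.leaf nd443)

def ndTree446 : Tr (List ℕ) := .node ndTree444 ndTree445

def ndTree447 : Tr (List ℕ) := .node (.leaf nd123) (.leaf nd379)

def ndTree448 : Tr (List ℕ) := .node (.leaf nd251) (.leaf nd507)

def ndTree449 : Tr (List ℕ) := .node ndTree447 ndTree448

def ndTree450 : Tr (List ℕ) := .node ndTree446 ndTree449

def ndTree451 : Tr (List ℕ) := .node ndTree443 ndTree450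

def ndTree452 : Tr (List ℕ) := .node ndTree436 ndTree451

def ndTree453 : Tr (List ℕ) := .node ndTree421 ndTree452

def ndTree454 : Tr (List ℕ) := .node (.leaf nd7) (.leaf nd519)

def ndTree455 : Tr (List ℕ) := .node ndTree454 (.leaf nd263)

def ndTree456 : Tr (List ℕ) := .node (.leaf nd135) (.leaf nd391)

def ndTree457 : Tr (List ℕ) := .node ndTree455 ndTree456

def ndTree458 : Tr (List ℕ) := .node (.leaf nd71) (.leaf nd327)

def ndTree459 : Tr (List ℕ) := .node (.leaf nd199) (.leaf nd455)

def ndTree460 : Tr (List ℕ) := .node ndTree458 ndTree459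

def ndTree461 : Tr (List ℕ) := .node ndTree457 ndTree460

def ndTree462 : Tr (List ℕ) := .node (.leaf nd39) (.leaf nd295)

def ndTree463 : Tr (List ℕ) := .node (.leaf nd167) (.leaf nd423)

def ndTree464 : Tr (List ℕ) := .node ndTree462 ndTree463

def ndTree465 : Tr (List ℕ) := .node (.leaf nd103) (.leaf nd359)

def ndTree466 : Tr (List ℕ) := .node (.leaf nd231) (.leaf nd487)

def ndTree467 : Tr (List ℕ) := .node ndTree465 ndTree466

def ndTree468 : Tr (List ℕ) := .node ndTree464 ndTree467

def ndTree469 : Tr (List ℕ) := .node ndTree461 ndTree468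

def ndTree470 : Tr (List ℕ) := .node (.leaf nd23) (.leaf nd279)

def ndTree471 : Tr (List ℕ) := .node (.leaf nd151) (.leaf nd407)

def ndTree472 : Tr (List ℕ) := .node ndTree470 ndTree471

def ndTree473 : Tr (List ℕ) := .node (.leaf nd87) (.leaf nd343)

def ndTree474 : Tr (List ℕ) := .node (.leaf nd215) (.leaf nd471)

def ndTree475 : Tr (List ℕ) := .node ndTree473 ndTree474

def ndTree476 : Tr (List ℕ) := .node ndTree472 ndTree475

def ndTree477 : Tr (List ℕ) := .node (.leaf nd55) (.leaf nd311)

def ndTree478 : Tr (List ℕ) := .node (.leaf nd183) (.leaf nd439)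

def ndTree479 : Tr (List ℕ) := .node ndTree477 ndTree478

def ndTree480 : Tr (List ℕ) := .node (.leaf nd119) (.leaf nd375)

def ndTree481 : Tr (List ℕ) := .node (.leaf nd247) (.leaf nd503)

def ndTree482 : Tr (List ℕ) := .node ndTree480 ndTree481

def ndTree483 : Tr (List ℕ) := .node ndTree479 ndTree482

def ndTree484 : Tr (List ℕ) := .node ndTree476 ndTree483

def ndTree485 : Tr (List ℕ) := .node ndTree469 ndTree484

def ndTree486 : Tr (List ℕ) := .node (.leaf nd15) (.leaf nd271)

def ndTree487 : Tr (List ℕ) := .node (.leaf nd143) (.leaf nd399)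

def ndTree488 : Tr (List ℕ) := .node ndTree486 ndTree487

def ndTree489 : Tr (List ℕ) := .node (.leaf nd79) (.leaf nd335)

def ndTree490 : Tr (List ℕ) := .node (.leaf nd207) (.leaf nd463)

def ndTree491 : Tr (List ℕ) := .node ndTree489 ndTree490

def ndTree492 : Tr (List ℕ) := .node ndTree488 ndTree491

def ndTree493 : Tr (List ℕ) := .node (.leaf nd47) (.leaf nd303)

def ndTree494 : Tr (List ℕ) := .node (.leaf nd175) (.leaf nd431)

def ndTree495 : Tr (List ℕ) := .node ndTree493 ndTree494

def ndTree496 : Tr (List ℕ) := .node (.leaf nd111) (.leaf nd367)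

def ndTree497 : Tr (List ℕ) := .node (.leaf nd239) (.leaf nd495)

def ndTree498 : Tr (List ℕ) := .node ndTree496 ndTree497

def ndTree499 : Tr (List ℕ) := .node ndTree495 ndTree498

def ndTree500 : Tr (List ℕ) := .node ndTree492 ndTree499

def ndTree501 : Tr (List ℕ) := .node (.leaf nd31) (.leaf nd287)

def ndTree502 : Tr (List ℕ) := .node (.leaf nd159) (.leaf nd415)

def ndTree503 : Tr (List ℕ) := .node ndTree501 ndTree502

def ndTree504 : Tr (List ℕ) := .node (.leaf nd95) (.leaf nd351)

def ndTree505 : Tr (List ℕ) := .node (.leaf nd223) (.leaf nd479)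

def ndTree506 : Tr (List ℕ) := .node ndTree504 ndTree505

def ndTree507 : Tr (List ℕ) := .node ndTree503 ndTree506

def ndTree508 : Tr (List ℕ) := .node (.leaf nd63) (.leaf nd319)

def ndTree509 : Tr (List ℕ) := .node (.leaf nd191) (.leaf nd447)

def ndTree510 : Tr (List ℕ) := .node ndTree508 ndTree509

def ndTree511 : Tr (List ℕ) := .node (.leaf nd127) (.leaf nd383)

def ndTree512 : Tr (List ℕ) := .node (.leaf nd255) (.leaf nd511)

def ndTree513 : Tr (List ℕ) := .node ndTree511 ndTree512

def ndTree514 : Tr (List ℕ) := .node ndTree510 ndTree513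

def ndTree515 : Tr (List ℕ) := .node ndTree507 ndTree514

def ndTree516 : Tr (List ℕ) := .node ndTree500 ndTree515

def ndTree517 : Tr (List ℕ) := .node ndTree485 ndTree516

def ndTree518 : Tr (List ℕ) := .node ndTree453 ndTree517

def ndTree519 : Tr (List ℕ) := .node ndTree389 ndTree518

def ndTree520 : Tr (List ℕ) := .node ndTree259 ndTree519

/-- The table of the nodes. -/
def ndTab : Tr (List ℕ) := ndTree520

/-- The products. -/
def ndProg0 : List (ℕ × ℕ) := [(1, 3), (3, 4), (1, 0), (6, 1), (5, 7), (5, 8), (9, 2), (10, 0), (11, 5), (12, 12), (13, 0), (14, 12), (0, 15), (3, 1), (0, 3), (0, 0), (17, 18), (0, 17), (0, 5), (22, 0), (18, 23), (24, 4), (21, 25), (5, 4), (27, 18), (26, 28), (29, 29), (30, 30), (29, 31), (31, 31), (33, 33), (32, 34), (0, 35), (0, 29), (36, 37), (38, 38), (39, 39), (40, 40), (41, 41), (39, 42), (29, 43), (44, 18), (0, 1), (4, 46), (6, 47), (47, 48), (49, 47), (50, 21), (51, 51), (52, 52), (51, 53), (53, 53), (54, 55), (0, 56), (0, 51), (57, 58), (59, 59), (60, 60), (60, 61), (61,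 61), (62, 63), (51, 64), (65, 65), (65, 66), (66, 66), (68, 68), (67, 69), (69, 69), (70, 71), (44, 72), (48, 48), (48, 74), (74, 74), (76, 76), (75, 77), (0, 78), (0, 48), (79, 80), (81, 81), (82, 82)]

/-- The products. -/
def ndProg1 : List (ℕ × ℕ) := [(83, 83), (84, 84), (82, 85), (48, 86), (87, 87), (88, 88), (89, 89), (87, 90), (73, 91), (45, 92), (44, 44), (44, 94), (94, 94), (95, 96), (65, 97), (48, 1), (50, 99), (100, 100), (0, 101), (0, 100), (102, 103), (104, 104), (104, 105), (105, 105), (106, 107), (107, 107), (108, 109), (100, 110), (72, 44), (72, 112), (111, 113), (98, 114), (93, 115), (1, 48), (0, 7), (118, 1), (119, 1), (120, 6), (117, 121), (119, 21), (122, 123), (124, 124), (125, 125), (125, 126), (126, 126), (127, 128), (128, 128), (129, 130), (0, 131), (0, 124), (132, 133), (134, 134), (135, 135), (136, 136), (137, 137), (124, 138), (139, 3), (121, 121), (141, 141), (141, 142), (142, 142), (144, 144), (143, 145), (0, 146), (0, 121), (147, 148), (149, 149), (121, 150), (151, 151), (151, 152),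 (152, 152), (154, 154), (153, 155), (140, 156), (1, 6), (158, 21), (159, 158), (160, 122), (161, 161), (162, 162)]

/-- The products. -/
def ndProg2 : List (ℕ × ℕ) := [(161, 163), (163, 163), (165, 165), (164, 166), (0, 167), (0, 161), (168, 169), (170, 170), (170, 171), (171, 171), (172, 173), (161, 174), (175, 151), (117, 117), (177, 177), (178, 178), (117, 179), (179, 179), (181, 181), (180, 182), (0, 183), (0, 117), (184, 185), (186, 186), (187, 187), (188, 188), (189, 189), (117, 190), (191, 191), (191, 192), (192, 192), (194, 194), (195, 195), (193, 196), (176, 197), (157, 198), (120, 121), (160, 200), (201, 201), (202, 202), (203, 203), (204, 204), (205, 205), (0, 206), (0, 201), (207, 208), (209, 209), (210, 210), (211, 211), (212, 212), (201, 213), (214, 3), (3, 215), (175, 175), (217, 217), (218, 218), (217, 219), (214, 214), (214, 221), (221, 221), (222, 223), (139, 139), (139, 225), (225, 225), (227, 227), (226, 228), (229, 220), (224, 230), (220, 230), (216, 232), (199, 233), (234, 234), (235, 235),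 (234, 236), (0, 116), (238, 116), (239, 116), (240, 116), (241, 116), (6, 7)]

/-- The products. -/
def ndProg3 : List (ℕ × ℕ) := [(243, 6), (1, 4), (245, 6), (246, 18), (24, 247), (248, 243), (1, 244), (249, 250), (244, 251), (252, 3), (116, 234), (254, 116), (255, 234), (256, 234), (257, 234), (258, 116), (259, 234), (260, 234), (261, 234), (262, 234), (263, 234), (253, 253), (265, 265), (266, 266), (265, 267), (267, 267), (269, 269), (268, 270), (264, 271), (264, 253), (272, 273), (274, 274), (274, 275), (275, 275), (276, 277), (277, 277), (278, 279), (253, 280), (243, 251), (282, 282), (282, 283), (283, 283), (285, 285), (284, 286), (264, 287), (264, 282), (288, 289), (290, 290), (291, 291), (291, 292), (292, 292), (293, 294), (282, 295), (281, 296), (3, 7), (298, 1), (299, 251), (300, 300), (301, 301), (302, 302), (300, 303), (303, 303), (305, 305), (304, 306), (264, 307), (264, 300), (308, 309), (310, 310), (311, 311), (310, 312), (312, 312), (314, 314), (313, 315), (300, 316), (317, 317), (318, 318), (317,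 319), (319, 319), (320, 321), (297, 322)]

/-- The products. -/
def ndProg4 : List (ℕ × ℕ) := [(296, 296), (296, 324), (324, 324), (326, 326), (325, 327), (327, 327), (328, 329), (119, 251), (331, 331), (331, 332), (332, 332), (333, 334), (334, 334), (335, 336), (264, 337), (264, 331), (338, 339), (340, 340), (341, 341), (341, 342), (342, 342), (343, 344), (331, 345), (346, 346), (346, 347), (347, 347), (349, 349), (348, 350), (350, 350), (351, 352), (330, 353), (354, 281), (323, 355), (281, 281), (281, 357), (357, 357), (359, 359), (358, 360), (298, 249), (362, 331), (363, 3), (364, 364), (364, 365), (365, 365), (366, 367), (367, 367), (368, 369), (264, 370), (264, 364), (371, 372), (373, 373), (374, 374), (375, 375), (376, 376), (364, 377), (378, 378), (378, 379), (379, 379), (380, 381), (317, 382), (378, 383), (361, 384), (346, 385), (300, 3), (387, 387), (387, 388), (388, 388), (389, 390), (390, 390), (392, 392), (391, 393), (264, 394), (264, 387), (395, 396), (397, 397), (398, 398), (397, 399), (399, 399),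 (401, 401), (400, 402)]

/-- The products. -/
def ndProg5 : List (ℕ × ℕ) := [(387, 403), (404, 404), (405, 405), (404, 406), (406, 406), (407, 408), (317, 346), (281, 410), (409, 411), (386, 412), (356, 413), (414, 414), (415, 415), (414, 416), (235, 234), (418, 116), (419, 234), (420, 234), (421, 234), (234, 116), (423, 237), (424, 237), (425, 116), (426, 237), (427, 237), (428, 116), (429, 234), (235, 116), (431, 234), (432, 234), (433, 116), (434, 234), (435, 234), (436, 116), (437, 234), (438, 234), (422, 422), (422, 440), (441, 239), (430, 241), (239, 239), (443, 444), (439, 440), (446, 239), (161, 124), (448, 3), (124, 117), (449, 450), (451, 451), (452, 452), (452, 453), (453, 453), (454, 455), (455, 455), (456, 457), (0, 458), (0, 451), (459, 460), (461, 461), (462, 462), (463, 463), (464, 464), (462, 465), (451, 466), (151, 467), (117, 201), (469, 469), (470, 470), (469, 471), (0, 472), (0, 469), (469, 470), (468, 475), (467, 175), (467, 467), (478, 478), (479, 479), (467, 480), (477, 481), (482, 229)]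

/-- The products. -/
def ndProg6 : List (ℕ × ℕ) := [(483, 191), (476, 484), (229, 475), (175, 486), (475, 487), (156, 488), (191, 475), (175, 490), (3, 491), (489, 491), (485, 493), (191, 151), (495, 3), (496, 139), (497, 3), (224, 139), (499, 481), (500, 197), (498, 501), (481, 156), (3, 503), (139, 504), (475, 505), (220, 475), (506, 507), (502, 508), (440, 116), (444, 116), (16, 16), (512, 16), (513, 16), (514, 16), (515, 16), (516, 16), (517, 16), (518, 16), (519, 16), (520, 16)]

end Cfsg.Lib.J4Maximal.P37
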